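import Cfsg.Agent.Golay.ExtTwo.Cert
import Cfsg.Agent.Golay.CocodeExt

/-!
Certificates for extensions of M23 applied to an abstract extension.
-/

set_option autoImplicit false

namespace Cfsg.Lib.Golay.ExtTwo

open Cfsg Cfsg.Lib.PermCert

/-- A table word on a position. -/
def apW (gs : List PP) (w : List ℕ) (x : ℕ) : ℕ := w.foldr (fun k y => ap (gs.getD k (0, 0)).1 y) x

/-- Two table words agree. -/
def sameP (gs : List PP) (w w' : List ℕ) : Bool := (List.range 24).all fun x => apW gs w x == apW gs w' x

/-- The pairs in the order of the rules. -/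
def pairs : List (ℕ × ℕ) := (List.range 7).flatMap fun a => (List.range (a + 1)).map fun b => (a, b)

/-- The facts tying a certificate to permutations and to matrices. -/
def tied (D : Data) (gens conjEls : List PP) (owners : List (ℕ × ℕ)) (mat : PP → ℕ → ℕ → ZMod 2) : Bool :=
  gens.length == 7 && conjEls.length == D.conjs.length &&
  ((gens ++ conjEls).all fun p => preserves p && ap p.1 23 == 23) &&
  ((List.range 7).all fun a => (List.range (a + 1)).all fun b =>
    sameP gens [a, b] (D.rules.getD (ridx a b) []) && pairs.getD (ridx a b) (0, 0) == (a, b)) &&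
  Nat.ble (28 * 11) D.nv &&
  ((List.range D.conjs.length).all fun j =>
    let C := D.conjs.getD j ⟨[], [], [], 0⟩
    (List.range C.src.length).all fun k =>
      ((List.range 24).all fun x =>
        ap (conjEls.getD j (0, 0)).1 (apW gens (C.src.getD k []) x) ==
          apW gens (C.dst.getD k []) (ap (conjEls.getD j (0, 0)).1 x)) &&
      Nat.ble 28 (C.off + k) && Nat.ble ((C.off + k + 1) * 11) D.nv &&
      owners.getD (C.off + k - 28) (0, 0) == (j, k)) &&
  ((List.range 7).all fun a => (List.range 11).all fun r => (List.range 11).all fun k =>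
    (if ((D.mats.getD a []).getD r 0).testBit k then (1 : ZMod 2) else 0) == mat (gens.getD a (0, 0)) r k) &&
  ((List.range D.conjs.length).all fun j => (List.range 11).all fun r => (List.range 11).all fun k =>
    (if ((D.conjs.getD j ⟨[], [], [], 0⟩).mat.getD r 0).testBit k then (1 : ZMod 2) else 0) ==
      mat (conjEls.getD j (0, 0)) r k) &&
  (D.normals.all fun w => D.normals.all fun w' => w == w' || !sameP gens w w') &&
  decide D.normals.Nodup && D.normals.length == 128

/-- An extension of M23 by a module given by `ρ`. -/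
structure IsExt {E : Type*} [Group E] (ρ : Equiv.Perm GolayPt → V → V) (π : E →* ↥Spor.M23)
    (ι : Multiplicative V →* E) : Prop where
  surj : Function.Surjective π
  inj : Function.Injective ι
  ker : π.ker = ι.range
  conj : ∀ (e : E) (v : V), e * ι (Multiplicative.ofAdd v) * e⁻¹ =
    ι (Multiplicative.ofAdd (ρ (π e : Equiv.Perm GolayPt) v))

/-- A module described on tables by `mat`. -/
def Describes (ρ : Equiv.Perm GolayPt → V → V) (mat : PP → ℕ → ℕ → ZMod 2) : Prop :=
  ∀ p : PP, preserves p = true → ap p.1 23 = 23 → ∀ (v : V) (r : Fin 11),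
    ρ (toP p) v r = ∑ k : Fin 11, v k * mat p r.val k.val

theorem valid_of_preserves {p : PP} (h : preserves p = true) : valid 24 p = true := by
  simp only [preserves, Bool.and_eq_true] at h
  exact h.1

theorem mem_M23 {p : PP} (hp : preserves p = true) (h : ap p.1 23 = 23) : toP p ∈ Spor.M23 :=
  ⟨toP_mem_M24 hp, MulAction.mem_stabilizer_iff.2 (pidx_injective (by
    rw [Equiv.Perm.smul_def, pidx_toP (valid_of_preserves hp)]; exact h))⟩

/-- The element of M23 of a table. -/
def el (p : PP) : ↥Spor.M23 :=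
  if h : preserves p = true ∧ ap p.1 23 = 23 then ⟨toP p, mem_M23 h.1 h.2⟩ else 1

theorem el_coe {p : PP} (hp : preserves p = true) (h : ap p.1 23 = 23) : (el p : Equiv.Perm GolayPt) = toP p := by
  rw [el, dif_pos ⟨hp, h⟩]

theorem pidx_word (gs : List PP) (hg : ∀ k < gs.length, preserves (gs.getD k (0, 0)) = true ∧
    ap (gs.getD k (0, 0)).1 23 = 23) : ∀ (w : List ℕ), (∀ k ∈ w, k < gs.length) → ∀ q : GolayPt,
    pidx ((((w.map fun k => el (gs.getD k (0, 0))).prod : ↥Spor.M23) : Equiv.Perm GolayPt) q) = apW gs w (pidx q)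
  | [], _, q => by simp [apW]
  | k :: w, h, q => by
    obtain ⟨h1, h2⟩ := hg k (h k List.mem_cons_self)
    rw [List.map_cons, List.prod_cons, Subgroup.coe_mul, Equiv.Perm.mul_apply, el_coe h1 h2,
      pidx_toP (valid_of_preserves h1), pidx_word gs hg w (fun i hi => h i (List.mem_cons_of_mem k hi)) q]
    rfl

theorem word_eq {gs : List PP} (hg : ∀ k < gs.length, preserves (gs.getD k (0, 0)) = true ∧
    ap (gs.getD k (0, 0)).1 23 = 23) {w w' : List ℕ} (h : ∀ k ∈ w, k < gs.length) (h' : ∀ k ∈ w', k < gs.length) :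
    (w.map fun k => el (gs.getD k (0, 0))).prod = (w'.map fun k => el (gs.getD k (0, 0))).prod ↔
      sameP gs w w' = true := by
  simp only [sameP, List.all_eq_true, List.mem_range, beq_iff_eq]
  constructor
  · intro e x hx
    have := congrArg (fun g : ↥Spor.M23 => pidx ((g : Equiv.Perm GolayPt) (ptAt x))) e
    simp only [pidx_word gs hg w h, pidx_word gs hg w' h', show pidx (ptAt x) = x from pidx_ptAt ⟨x, hx⟩] at this
    exact this
  · intro e
    refine Subtype.ext (Equiv.ext fun q => pidx_injective ?_)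
    rw [pidx_word gs hg w h, pidx_word gs hg w' h', e _ (pidx_lt q)]

section

variable {D : Data} {gens conjEls : List PP} {owners : List (ℕ × ℕ)} {mat : PP → ℕ → ℕ → ZMod 2}
  {ρ : Equiv.Perm GolayPt → V → V} {E : Type*} [Group E] {π : E →* ↥Spor.M23} {ι : Multiplicative V →* E}

/-- The unpacked facts. -/
structure Facts (D : Data) (gens conjEls : List PP) (owners : List (ℕ × ℕ)) (mat : PP → ℕ → ℕ → ZMod 2) : Prop where
  gens_len : gens.length = 7
  conj_len : conjEls.length = D.conjs.length
  good : ∀ p ∈ gens ++ conjEls, preserves p = true ∧ ap p.1 23 = 23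
  rules : ∀ a < 7, ∀ b ≤ a, sameP gens [a, b] (D.rules.getD (ridx a b) []) = true ∧
    pairs.getD (ridx a b) (0, 0) = (a, b)
  room : 28 * 11 ≤ D.nv
  carry : ∀ j < D.conjs.length, ∀ k < (D.conjs.getD j ⟨[], [], [], 0⟩).src.length,
    (∀ x < 24, ap (conjEls.getD j (0, 0)).1 (apW gens ((D.conjs.getD j ⟨[], [], [], 0⟩).src.getD k []) x) =
      apW gens ((D.conjs.getD j ⟨[], [], [], 0⟩).dst.getD k []) (ap (conjEls.getD j (0, 0)).1 x)) ∧
    28 ≤ (D.conjs.getD j ⟨[], [], [], 0⟩).off + k ∧
    ((D.conjs.getD j ⟨[], [], [], 0⟩).off + k + 1) * 11 ≤ D.nv ∧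
    owners.getD ((D.conjs.getD j ⟨[], [], [], 0⟩).off + k - 28) (0, 0) = (j, k)
  mats : ∀ a < 7, ∀ r < 11, ∀ k < 11,
    (if ((D.mats.getD a []).getD r 0).testBit k then (1 : ZMod 2) else 0) = mat (gens.getD a (0, 0)) r k
  cmats : ∀ j < D.conjs.length, ∀ r < 11, ∀ k < 11,
    (if ((D.conjs.getD j ⟨[], [], [], 0⟩).mat.getD r 0).testBit k then (1 : ZMod 2) else 0) =
      mat (conjEls.getD j (0, 0)) r k
  apart : ∀ w ∈ D.normals, ∀ w' ∈ D.normals, sameP gens w w' = true → w = w'
  nodup : D.normals.Nodup
  count : D.normals.length = 128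

theorem facts_of_tied (h : tied D gens conjEls owners mat = true) : Facts D gens conjEls owners mat := by
  simp only [tied, Bool.and_eq_true, List.all_eq_true, beq_iff_eq, List.mem_range, decide_eq_true_eq, Nat.ble_eq,
    Bool.or_eq_true, Bool.not_eq_true'] at h
  obtain ⟨⟨⟨⟨⟨⟨⟨⟨⟨⟨h1, h2⟩, h3⟩, h4⟩, h5⟩, h6⟩, h7⟩, h8⟩, h9⟩, h10⟩, h11⟩ := h
  refine ⟨h1, h2, h3, fun a ha b hb => h4 a ha b (by omega), h5, fun j hj k hk => ?_, h7, h8, fun w hw w' hw' hs => ?_,
    h10, h11⟩
  · obtain ⟨⟨⟨a1, a2⟩, a3⟩, a4⟩ := h6 j hj k hk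
    exact ⟨a1, a2, a3, a4⟩
  · rcases h9 w hw w' hw' with h | h
    · exact h
    · rw [hs] at h
      exact Bool.noConfusion h

variable (hf : Facts D gens conjEls owners mat) (hx : IsExt ρ π ι) (hd : Describes ρ mat)

theorem Facts.good_gen (hf : Facts D gens conjEls owners mat) (k : ℕ) (hk : k < gens.length) :
    preserves (gens.getD k (0, 0)) = true ∧ ap (gens.getD k (0, 0)).1 23 = 23 := by
  rw [List.getD_eq_getElem _ _ hk]
  exact hf.good _ (List.mem_append_left _ (List.getElem_mem hk))

theorem Facts.good_conj (hf : Facts D gens conjEls owners mat) (j : ℕ) (hj : j < D.conjs.length) :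
    preserves (conjEls.getD j (0, 0)) = true ∧ ap (conjEls.getD j (0, 0)).1 23 = 23 := by
  rw [List.getD_eq_getElem _ _ (hf.conj_len.symm ▸ hj)]
  exact hf.good _ (List.mem_append_right _ (List.getElem_mem _))

/-- The coordinates of an element of the module. -/
noncomputable def coords (ι : Multiplicative V →* E) (x : E) : V := (Function.invFun ι x).toAdd

theorem coords_spec {x : E} (h : x ∈ ι.range) : ι (Multiplicative.ofAdd (coords ι x)) = x := by
  obtain ⟨v, rfl⟩ := h
  exact Function.invFun_eq ⟨v, rfl⟩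

/-- The lift of a table. -/
noncomputable def lift (π : E →* ↥Spor.M23) (p : PP) : E := Function.invFun π (el p)

theorem lift_spec (hx : IsExt ρ π ι) (p : PP) : π (lift π p) = el p := Function.invFun_eq (hx.surj _)

theorem word_map (hx : IsExt ρ π ι) (gs : List PP) (w : List ℕ) :
    π (w.map fun k => lift π (gs.getD k (0, 0))).prod = (w.map fun k => el (gs.getD k (0, 0))).prod := by
  rw [map_list_prod, List.map_map]
  exact congrArg List.prod (List.map_congr_left fun k _ => lift_spec hx _)

/-- The values of the variables. -/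
noncomputable def sval (D : Data) (gens conjEls : List PP) (owners : List (ℕ × ℕ)) (π : E →* ↥Spor.M23)
    (ι : Multiplicative V →* E) (i : ℕ) : ZMod 2 :=
  if hr : i % 11 < 11 then
    if i / 11 < 28 then
      coords ι (lift π (gens.getD (pairs.getD (i / 11) (0, 0)).1 (0, 0)) *
        lift π (gens.getD (pairs.getD (i / 11) (0, 0)).2 (0, 0)) *
        (((D.rules.getD (i / 11) []).map fun k => lift π (gens.getD k (0, 0))).prod)⁻¹) ⟨i % 11, hr⟩
    else
      coords ι (lift π (conjEls.getD (owners.getD (i / 11 - 28) (0, 0)).1 (0, 0)) *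
        (((D.conjs.getD (owners.getD (i / 11 - 28) (0, 0)).1 ⟨[], [], [], 0⟩).src.getD
          (owners.getD (i / 11 - 28) (0, 0)).2 []).map fun k => lift π (gens.getD k (0, 0))).prod *
        (lift π (conjEls.getD (owners.getD (i / 11 - 28) (0, 0)).1 (0, 0)))⁻¹ *
        ((((D.conjs.getD (owners.getD (i / 11 - 28) (0, 0)).1 ⟨[], [], [], 0⟩).dst.getD
          (owners.getD (i / 11 - 28) (0, 0)).2 []).map fun k => lift π (gens.getD k (0, 0))).prod)⁻¹) ⟨i % 11, hr⟩
  else 0

theorem mulM_eq {M : List ℕ} {p : PP} (hd : Describes ρ mat) (hp : preserves p = true) (h23 : ap p.1 23 = 23)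
    (hM : ∀ r < 11, ∀ k < 11, (if (M.getD r 0).testBit k then (1 : ZMod 2) else 0) = mat p r k) (v : V) :
    mulM M v = ρ (toP p) v := by
  funext r
  rw [hd p hp h23, mulM]
  refine Finset.sum_congr rfl fun k _ => ?_
  rw [← hM r.val r.isLt k.val k.isLt]
  split <;> simp

/-- The lifts with the values of the variables. -/
noncomputable def mkSetting (hf : Facts D gens conjEls owners mat) (hv : Valid D) (hx : IsExt ρ π ι)
    (hd : Describes ρ mat) : Setting D ι where
  X k := lift π (gens.getD k (0, 0))
  h j := lift π (conjEls.getD j (0, 0))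
  s := sval D gens conjEls owners π ι
  inj := hx.inj
  room := hf.room
  act a ha v := by
    obtain ⟨h1, h2⟩ := hf.good_gen a (hf.gens_len.symm ▸ ha)
    have := hx.conj (lift π (gens.getD a (0, 0))) v
    rw [lift_spec hx, el_coe h1 h2, ← mulM_eq hd h1 h2 (hf.mats a ha)] at this
    rw [← this, inv_mul_cancel_right]
  rule a ha b hb := by
    have hi := ridx_lt ha hb
    have hlt : ∀ k ∈ D.rules.getD (ridx a b) [], k < gens.length := fun k hk => by
      have hsh := hv.shape
      simp only [Data.shapeOK, Bool.and_eq_true, List.all_eq_true] at hsh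
      by_cases h : ridx a b < D.rules.length
      · rw [List.getD_eq_getElem _ _ h] at hk
        exact hf.gens_len.symm ▸ Nat.le_of_ble_eq_true (hsh.1.1.1 _ (List.getElem_mem h) k hk)
      · rw [List.getD_eq_default _ _ (not_lt.1 h)] at hk
        simp at hk
    have hmem : lift π (gens.getD a (0, 0)) * lift π (gens.getD b (0, 0)) *
        (((D.rules.getD (ridx a b) []).map fun k => lift π (gens.getD k (0, 0))).prod)⁻¹ ∈ ι.range := by
      rw [← hx.ker, MonoidHom.mem_ker, map_mul, map_inv, map_mul, word_map hx, lift_spec hx, lift_spec hx,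
        mul_inv_eq_one]
      have := (word_eq hf.good_gen (w := [a, b]) (w' := D.rules.getD (ridx a b) [])
        (fun k hk => by
          simp only [List.mem_cons, List.not_mem_nil, or_false] at hk
          rw [hf.gens_len]
          omega) hlt).2 (hf.rules a ha b hb).1
      simpa using this
    have he : evV D.nv (sval D gens conjEls owners π ι) (unit (ridx a b)) = coords ι (lift π (gens.getD a (0, 0)) *
        lift π (gens.getD b (0, 0)) * (((D.rules.getD (ridx a b) []).map fun k => lift π (gens.getD k (0, 0))).prod)⁻¹) := by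
      rw [evV_unit (by have := hf.room; omega)]
      funext r
      have h1 : (ridx a b * 11 + r.val) / 11 = ridx a b := by have := r.isLt; omega
      have h2 : (ridx a b * 11 + r.val) % 11 = r.val := by have := r.isLt; omega
      rw [sval, dif_pos (Nat.mod_lt _ (by norm_num)), if_pos (h1.symm ▸ hi)]
      simp only [h1, (hf.rules a ha b hb).2]
      exact congrArg _ (Fin.ext h2)
    rw [he, coords_spec hmem, inv_mul_cancel_right]
  actH j hj v := by
    obtain ⟨h1, h2⟩ := hf.good_conj j hj
    rw [hx.conj, lift_spec hx, el_coe h1 h2, ← mulM_eq hd h1 h2 (hf.cmats j hj)]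
  carry j hj k hk := by
    obtain ⟨hperm, hlow, hhigh, hown⟩ := hf.carry j hj k hk
    set C := D.conjs.getD j ⟨[], [], [], 0⟩ with hC
    have hw := List.all_eq_true.1 hv.words C (by rw [hC, List.getD_eq_getElem _ _ hj]; exact List.getElem_mem hj)
    simp only [Bool.and_eq_true, List.all_eq_true] at hw
    have hls : ∀ l : List (List ℕ), (∀ w ∈ l, ∀ i ∈ w, Nat.blt i 7 = true) → ∀ i ∈ l.getD k [], i < gens.length := by
      intro l hl i hi
      by_cases h : k < l.length
      · rw [List.getD_eq_getElem _ _ h] at hi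
        exact hf.gens_len.symm ▸ Nat.le_of_ble_eq_true (hl _ (List.getElem_mem h) i hi)
      · rw [List.getD_eq_default _ _ (not_lt.1 h)] at hi
        simp at hi
    obtain ⟨h1, h2⟩ := hf.good_conj j hj
    have hmem : lift π (conjEls.getD j (0, 0)) * ((C.src.getD k []).map fun i => lift π (gens.getD i (0, 0))).prod *
        (lift π (conjEls.getD j (0, 0)))⁻¹ * (((C.dst.getD k []).map fun i => lift π (gens.getD i (0, 0))).prod)⁻¹ ∈
          ι.range := by
      rw [← hx.ker, MonoidHom.mem_ker, map_mul, map_inv, map_mul, map_inv, map_mul, word_map hx, word_map hx,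
        lift_spec hx, mul_inv_eq_one, mul_inv_eq_iff_eq_mul]
      refine Subtype.ext (Equiv.ext fun q => pidx_injective ?_)
      rw [Subgroup.coe_mul, Subgroup.coe_mul, Equiv.Perm.mul_apply, Equiv.Perm.mul_apply, el_coe h1 h2,
        pidx_toP (valid_of_preserves h1), pidx_word gens hf.good_gen _ (hls _ hw.1),
        pidx_word gens hf.good_gen _ (hls _ hw.2), pidx_toP (valid_of_preserves h1)]
      exact hperm _ (pidx_lt q)
    have he : evV D.nv (sval D gens conjEls owners π ι) (unit (C.off + k)) = coords ι (lift π (conjEls.getD j (0, 0)) *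
        ((C.src.getD k []).map fun i => lift π (gens.getD i (0, 0))).prod * (lift π (conjEls.getD j (0, 0)))⁻¹ *
        (((C.dst.getD k []).map fun i => lift π (gens.getD i (0, 0))).prod)⁻¹) := by
      rw [evV_unit hhigh]
      funext r
      have e1 : ((C.off + k) * 11 + r.val) / 11 = C.off + k := by have := r.isLt; omega
      have e2 : ((C.off + k) * 11 + r.val) % 11 = r.val := by have := r.isLt; omega
      rw [sval, dif_pos (Nat.mod_lt _ (by norm_num)), if_neg (by omega)]
      simp only [e1, hown, ← hC]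
      exact congrArg _ (Fin.ext e2)
    rw [he, coords_spec hmem, inv_mul_cancel_right]

/-- With the left over functional zero the extension is complemented. -/
theorem split_of [Finite E] (hf : Facts D gens conjEls owners mat) (hv : Valid D) (hx : IsExt ρ π ι)
    (S : Setting D ι) (hS : ∀ k, π (S.X k) = el (gens.getD k (0, 0))) (he : ev D.nv S.s D.eps = 0) :
    ∃ H : Subgroup E, H ⊓ π.ker = ⊥ ∧ H ⊔ π.ker = ⊤ := by
  have hsh := hv.shape
  simp only [Data.shapeOK, Bool.and_eq_true, List.all_eq_true, List.contains_iff_mem] at hsh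
  have hlt : ∀ w ∈ D.normals, ∀ k ∈ w, k < gens.length := fun w hw k hk =>
    hf.gens_len.symm ▸ Nat.le_of_ble_eq_true (hsh.1.1.2 w hw k hk)
  have hword : ∀ w : List ℕ, (w.map fun k => π (S.X k)).prod = (w.map fun k => el (gens.getD k (0, 0))).prod :=
    fun w => congrArg List.prod (List.map_congr_left fun k _ => hS k)
  have hnt : ∀ w ∈ D.normals, (w.map fun k => π (S.X k)).prod = 1 → w = [] := fun w hw h => by
    refine hf.apart w hw [] hsh.1.2 ((word_eq hf.good_gen (hlt w hw) (by simp)).1 ?_)
    rw [← hword, h]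
    simp
  have hX : ∀ k, π (S.X' k) = π (S.X k) := fun k => by
    rw [Setting.X', map_mul, MonoidHom.mem_ker.1 (hx.ker ▸ ⟨_, rfl⟩ : iv ι D.nv S.s (D.shiftAt k) ∈ π.ker), one_mul]
  set K := Subgroup.closure ((fun k => π (S.X k)) '' Set.Iio 7) with hK
  have hsub : (K : Set ↥Spor.M23) = (fun w : List ℕ => (w.map fun k => π (S.X k)).prod) '' {w | w ∈ D.normals} := by
    refine Set.Subset.antisymm ?_ ?_
    · intro x hxK
      have : x ∈ (Subgroup.closure (S.X' '' Set.Iio 7)).map π := by
        rw [MonoidHom.map_closure, Set.image_image]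
        simp only [hX]
        exact hxK
      obtain ⟨y, hy, rfl⟩ := this
      obtain ⟨w, hw, rfl⟩ := S.complement hv he y hy
      refine ⟨w, hw, ?_⟩
      rw [map_list_prod, List.map_map]
      exact congrArg List.prod (List.map_congr_left fun k _ => (hX k).symm)
    · rintro _ ⟨w, hw, rfl⟩
      exact list_prod_mem fun g hg => by
        obtain ⟨k, hk, rfl⟩ := List.mem_map.1 hg
        exact Subgroup.subset_closure ⟨k, hf.gens_len ▸ hlt w hw k hk, rfl⟩
  have hinj : Set.InjOn (fun w : List ℕ => (w.map fun k => π (S.X k)).prod) {w | w ∈ D.normals} :=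
    fun w hw w' hw' e => hf.apart w hw w' hw'
      ((word_eq hf.good_gen (hlt w hw) (hlt w' hw')).1 (by rw [← hword, ← hword]; exact e))
  have hset : {w | w ∈ D.normals} = (↑D.normals.toFinset : Set (List ℕ)) := by ext; simp
  have hcard : Nat.card K = 128 := by
    calc Nat.card K = (K : Set ↥Spor.M23).ncard := Nat.card_coe_set_eq _
      _ = ((fun w : List ℕ => (w.map fun k => π (S.X k)).prod) '' {w | w ∈ D.normals}).ncard := by rw [hsub]
      _ = {w | w ∈ D.normals}.ncard := Set.ncard_image_of_injOn hinj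
      _ = (↑D.normals.toFinset : Set (List ℕ)).ncard := by rw [hset]
      _ = 128 := by rw [Set.ncard_coe_finset, List.toFinset_card_of_nodup hf.nodup, hf.count]
  obtain ⟨H, hH⟩ := S.split hv he π hx.surj hx.ker hnt (by
    rw [← hK]
    intro h2
    have := K.card_mul_index
    rw [hcard, card_M23] at this
    omega)
  exact ⟨H, disjoint_iff.1 hH.disjoint.symm, by rw [sup_comm]; exact hH.sup_eq_top⟩

end

end Cfsg.Lib.Golay.ExtTwo
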