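import Cfsg.Agent.SolvStruct.Gaschuetz
import Mathlib.GroupTheory.Sylow

/-!
Certificates that extensions by a module over the field with two elements split over a subgroup of odd index.

A subgroup is given by generators with a rewriting rule for every pair out of order. In an extension the rules acquire
tails; overlaps of rules and conjugation by further elements give linear equations on the tails. If every coordinate of
the tails, after a prescribed change of the lifts, is a combination of those equations, the lifts can be corrected to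
satisfy the rules exactly.
-/

set_option autoImplicit false

namespace Cfsg.Lib.Golay.ExtTwo

/-- Vectors of the module. -/
abbrev V : Type := Fin 11 → ZMod 2

/-- A conjugation: further element, and the images of the words it carries. -/
structure Conj where
  /-- The matrix, by rows of bits. -/
  mat : List ℕ
  /-- Words in the generators. -/
  src : List (List ℕ)
  /-- The words of their conjugates. -/
  dst : List (List ℕ)
  /-- The first variable block of the correction terms. -/
  off : ℕ

/-- An equation: an overlap, or a relation carried by a conjugation. -/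
inductive Eqn where
  | assoc (a b c : ℕ)
  | conj (j : ℕ) (w w' : List ℕ)

/-- The data. -/
structure Data where
  /-- The right sides of the rules, by position. -/
  rules : List (List ℕ)
  /-- The matrices of the generators, by rows of bits. -/
  mats : List (List ℕ)
  /-- The conjugations. -/
  conjs : List Conj
  /-- The number of variables. -/
  nv : ℕ
  /-- The change of the lifts. -/
  shift : List (List ℕ)
  /-- The equations used. -/
  eqns : List Eqn
  /-- Their values. -/
  vals : List ℕ
  /-- For each coordinate of each changed tail, the equations summing to it. -/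
  combos : List ℕ
  /-- The functional left over. -/
  eps : ℕ
  /-- The coordinates on which it is left over. -/
  resid : ℕ
  /-- The normal words. -/
  normals : List (List ℕ)

/-- The position of a pair. -/
def ridx (a b : ℕ) : ℕ := a * (a + 1) / 2 + b

/-- Sum of two rows of masks. -/
def vxor (v w : List ℕ) : List ℕ := List.zipWith (fun x y => x ^^^ y) v w

/-- The zero row of masks. -/
def vzero : List ℕ := List.replicate 11 0

/-- The masks of a block of variables. -/
def unit (i : ℕ) : List ℕ := (List.range 11).map fun r => 2 ^ (i * 11 + r)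

/-- A matrix applied to a row of masks. -/
def actM (M v : List ℕ) : List ℕ :=
  (List.range 11).map fun r => (List.range 11).foldr (fun k x => bif (M.getD r 0).testBit k then v.getD k 0 ^^^ x else x) 0

namespace Data

variable (D : Data)

/-- Action of a generator. -/
def actG (a : ℕ) (v : List ℕ) : List ℕ := actM (D.mats.getD a []) v

/-- One rewriting step at the first place out of order. -/
def red : List ℕ → Option (List ℕ × List ℕ)
  | [] => none
  | [_] => none
  | a :: b :: r =>
    bif Nat.ble b a then some (D.rules.getD (ridx a b) [] ++ r, unit (ridx a b))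
    else match red (b :: r) with
      | none => none
      | some x => some (a :: x.1, D.actG a x.2)

/-- Rewrite, collecting the tails. -/
def norm : ℕ → List ℕ → List ℕ × List ℕ
  | 0, w => (w, vzero)
  | n + 1, w =>
    match D.red w with
    | none => (w, vzero)
    | some x => match norm n x.1 with | (w', v) => (w', vxor x.2 v)

/-- Rewrite with enough steps. -/
def nf (w : List ℕ) : List ℕ × List ℕ := D.norm 400 w

/-- Action of a word. -/
def actW : List ℕ → List ℕ → List ℕ
  | [], v => v
  | a :: w, v => D.actG a (actW w v)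

/-- Move the prefixes of a product to the left. -/
def flat (pre : ℕ → List ℕ) (body : ℕ → List ℕ) : List ℕ → List ℕ × List ℕ
  | [] => ([], vzero)
  | k :: w => match flat pre body w with
    | (u, v) => (body k ++ u, vxor (pre k) (D.actW (body k) v))

/-- The value of an equation: zero in every extension. -/
def eqVal : Eqn → List ℕ
  | .assoc a b c =>
    let p := D.nf [a, b, c]
    let q := D.nf (a :: D.rules.getD (ridx b c) [])
    bif p.1 == q.1 then vxor p.2 (vxor (D.actG a (unit (ridx b c))) q.2) else vzero
  | .conj j w w' =>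
    let C := D.conjs.getD j ⟨[], [], [], 0⟩
    let p := D.nf (w.flatMap fun k => C.src.getD k [])
    let p' := D.nf (w'.flatMap fun k => C.src.getD k [])
    let f := D.flat (fun k => unit (C.off + k)) (fun k => C.dst.getD k []) w
    let f' := D.flat (fun k => unit (C.off + k)) (fun k => C.dst.getD k []) w'
    let q := D.nf f.1
    let q' := D.nf f'.1
    bif p.1 == p'.1 && q.1 == q'.1 then
      vxor (vxor (actM C.mat (vxor p.2 p'.2)) (vxor f.2 q.2)) (vxor f'.2 q'.2)
    else vzero

/-- The change of a generator. -/
def shiftAt (a : ℕ) : List ℕ := D.shift.getD a vzero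

/-- A tail after the change of lifts. -/
def changed (a b : ℕ) : List ℕ :=
  vxor (vxor (D.shiftAt a) (vxor (D.actG a (D.shiftAt b)) (unit (ridx a b))))
    (D.flat D.shiftAt (fun k => [k]) (D.rules.getD (ridx a b) [])).2

/-- The sum of the selected values. -/
def combine : List ℕ → ℕ → ℕ
  | [], _ => 0
  | x :: l, c => (bif c.testBit 0 then x else 0) ^^^ combine l (c / 2)

/-- The structural checks. -/
def shapeOK : Bool :=
  (D.rules.all fun w => w.all fun k => Nat.blt k 7) && (D.normals.all fun w => w.all fun k => Nat.blt k 7) &&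
  D.normals.contains [] && (List.range 7).all fun a => (D.shiftAt a).length == 11

/-- The equations have the listed values. -/
def valsOK : Bool := (D.eqns.flatMap fun q => D.eqVal q) == D.vals

/-- The equations have letters in range. -/
def eqnsOK : Bool :=
  D.eqns.all fun q => match q with
    | .assoc a b c => Nat.blt a 7 && Nat.ble b a && Nat.ble c b
    | .conj j w w' => Nat.blt j D.conjs.length &&
      (w ++ w').all fun k => Nat.blt k (D.conjs.getD j ⟨[], [], [], 0⟩).src.length

/-- Every changed tail is a combination of equations, up to the left over functional. -/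
def solved : Bool :=
  (List.range 7).all fun a => (List.range (a + 1)).all fun b => (List.range 11).all fun r =>
    ((D.changed a b).getD r 0 ^^^ bif D.resid.testBit (ridx a b * 11 + r) then D.eps else 0) ==
      combine D.vals (D.combos.getD (ridx a b * 11 + r) 0)

/-- The normal words are closed under the rules. -/
def closed : Bool :=
  D.normals.all fun w => (List.range 7).all fun i => D.normals.contains (D.nf (w ++ [i])).1

end Data

/-- The value of a mask. -/
def ev (nv : ℕ) (s : ℕ → ZMod 2) (m : ℕ) : ZMod 2 := ∑ k ∈ Finset.range nv, if m.testBit k then s k else 0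

/-- The value of a row of masks. -/
def evV (nv : ℕ) (s : ℕ → ZMod 2) (v : List ℕ) : V := fun r => ev nv s (v.getD r.val 0)

/-- A matrix applied to a vector. -/
def mulM (M : List ℕ) (v : V) : V := fun r => ∑ k : Fin 11, if (M.getD r.val 0).testBit k.val then v k else 0

theorem ev_xor (nv : ℕ) (s : ℕ → ZMod 2) (m m' : ℕ) : ev nv s (m ^^^ m') = ev nv s m + ev nv s m' := by
  rw [ev, ev, ev, ← Finset.sum_add_distrib]
  refine Finset.sum_congr rfl fun k _ => ?_
  rw [Nat.testBit_xor]
  cases m.testBit k <;> cases m'.testBit k <;>
    simp [(by decide : ∀ a : ZMod 2, a + a = 0)]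

theorem ev_zero (nv : ℕ) (s : ℕ → ZMod 2) : ev nv s 0 = 0 := by simp [ev]

theorem ev_pow (nv : ℕ) (s : ℕ → ZMod 2) {k : ℕ} (hk : k < nv) : ev nv s (2 ^ k) = s k := by
  rw [ev, Finset.sum_eq_single k (fun j _ h => by simp [Nat.testBit_two_pow, Ne.symm h])
    (fun h => absurd (Finset.mem_range.2 hk) h)]
  simp [Nat.testBit_two_pow]

theorem evV_vzero (nv : ℕ) (s : ℕ → ZMod 2) : evV nv s vzero = 0 := by
  funext r
  show ev nv s ((List.replicate 11 0).getD r.val 0) = 0
  rw [List.getD_eq_getElem _ _ (by simp), List.getElem_replicate, ev_zero]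

theorem evV_vxor {nv : ℕ} {s : ℕ → ZMod 2} {v w : List ℕ} (hv : v.length = 11) (hw : w.length = 11) :
    evV nv s (vxor v w) = evV nv s v + evV nv s w := by
  funext r
  have hr := r.isLt
  simp only [evV, Pi.add_apply]
  rw [List.getD_eq_getElem _ _ (by simp [vxor, hv, hw]), List.getD_eq_getElem v _ (by rw [hv]; exact hr),
    List.getD_eq_getElem w _ (by rw [hw]; exact hr), ← ev_xor]
  simp [vxor]

theorem len_vzero : vzero.length = 11 := by simp [vzero]

theorem len_unit (i : ℕ) : (unit i).length = 11 := by simp [unit]

theorem len_actM (M v : List ℕ) : (actM M v).length = 11 := by simp [actM]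

theorem len_vxor {v w : List ℕ} (hv : v.length = 11) (hw : w.length = 11) : (vxor v w).length = 11 := by
  simp [vxor, hv, hw]

theorem evV_unit {nv : ℕ} {s : ℕ → ZMod 2} {i : ℕ} (h : (i + 1) * 11 ≤ nv) :
    evV nv s (unit i) = fun r : Fin 11 => s (i * 11 + r.val) := by
  funext r
  rw [evV, List.getD_eq_getElem _ _ (by simp [unit])]
  simp only [unit, List.getElem_map, List.getElem_range]
  exact ev_pow nv s (by have := r.isLt; omega)

theorem evV_actM {nv : ℕ} {s : ℕ → ZMod 2} (M v : List ℕ) : evV nv s (actM M v) = mulM M (evV nv s v) := by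
  funext r
  rw [evV, List.getD_eq_getElem _ _ (by simp [actM])]
  simp only [actM, List.getElem_map, List.getElem_range, mulM, evV]
  rw [Fin.sum_univ_eq_sum_range fun k => if (M.getD r.val 0).testBit k then ev nv s (v.getD k 0) else 0]
  generalize hf : (fun k => if (M.getD r.val 0).testBit k then ev nv s (v.getD k 0) else 0) = f
  have key : ∀ l : List ℕ, ev nv s (l.foldr (fun k x => bif (M.getD r.val 0).testBit k then v.getD k 0 ^^^ x else x) 0) =
      (l.map f).sum := by
    intro l
    induction l with
    | nil => simp [ev_zero]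
    | cons k l ih =>
      rw [List.foldr_cons, List.map_cons, List.sum_cons, ← ih, ← hf]
      cases h : (M.getD r.val 0).testBit k <;> simp only [h, cond_false, cond_true, Bool.false_eq_true, if_false, if_true, ev_xor, zero_add]
  rw [key, ← List.sum_toFinset f List.nodup_range, List.toFinset_range]

section

variable {E : Type*} [Group E] {nv : ℕ}

/-- The setting of an extension with lifts and values of the variables. -/
structure Setting (D : Data) (ι : Multiplicative V →* E) where
  /-- The lifts. -/
  X : ℕ → E
  /-- The conjugating elements. -/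
  h : ℕ → E
  /-- The values of the variables. -/
  s : ℕ → ZMod 2
  /-- The module is faithfully embedded. -/
  inj : Function.Injective ι
  /-- The number of variables covers the rules. -/
  room : 28 * 11 ≤ D.nv
  /-- The matrices describe the action. -/
  act : ∀ a < 7, ∀ v : V, X a * ι (Multiplicative.ofAdd v) = ι (Multiplicative.ofAdd (mulM (D.mats.getD a []) v)) * X a
  /-- The tails. -/
  rule : ∀ a < 7, ∀ b ≤ a, X a * X b =
    ι (Multiplicative.ofAdd (evV D.nv s (unit (ridx a b)))) * ((D.rules.getD (ridx a b) []).map X).prod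
  /-- The action of the conjugating elements. -/
  actH : ∀ j < D.conjs.length, ∀ v : V, h j * ι (Multiplicative.ofAdd v) * (h j)⁻¹ =
    ι (Multiplicative.ofAdd (mulM (D.conjs.getD j ⟨[], [], [], 0⟩).mat v))
  /-- The correction terms. -/
  carry : ∀ j < D.conjs.length, ∀ k < (D.conjs.getD j ⟨[], [], [], 0⟩).src.length,
    h j * (((D.conjs.getD j ⟨[], [], [], 0⟩).src.getD k []).map X).prod * (h j)⁻¹ =
      ι (Multiplicative.ofAdd (evV D.nv s (unit ((D.conjs.getD j ⟨[], [], [], 0⟩).off + k)))) *
        (((D.conjs.getD j ⟨[], [], [], 0⟩).dst.getD k []).map X).prod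

variable {D : Data} {ι : Multiplicative V →* E}

/-- The embedded value of a row of masks. -/
def iv (ι : Multiplicative V →* E) (nv : ℕ) (s : ℕ → ZMod 2) (v : List ℕ) : E :=
  ι (Multiplicative.ofAdd (evV nv s v))

theorem iv_vxor {s : ℕ → ZMod 2} {v w : List ℕ} (hv : v.length = 11) (hw : w.length = 11) :
    iv ι nv s (vxor v w) = iv ι nv s v * iv ι nv s w := by
  rw [iv, evV_vxor hv hw, ofAdd_add, map_mul]
  rfl

theorem iv_vzero (s : ℕ → ZMod 2) : iv ι nv s vzero = 1 := by rw [iv, evV_vzero, ofAdd_zero, map_one]

theorem iv_self (s : ℕ → ZMod 2) (v : List ℕ) : iv ι nv s v * iv ι nv s v = 1 := by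
  have h : evV nv s v + evV nv s v = 0 := funext fun r => (by decide : ∀ a : ZMod 2, a + a = 0) _
  rw [iv, ← map_mul, ← ofAdd_add, h, ofAdd_zero, map_one]

theorem len_red : ∀ {w : List ℕ} {x : List ℕ × List ℕ}, D.red w = some x → x.2.length = 11
  | [], x, h => by simp [Data.red] at h
  | [_], x, h => by simp [Data.red] at h
  | a :: b :: r, x, h => by
    simp only [Data.red] at h
    cases hc : Nat.ble b a
    · rw [hc, cond_false] at h
      cases hr : D.red (b :: r) with
      | none => simp [hr] at h
      | some y =>
        rw [hr] at h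
        cases h
        exact len_actM _ _
    · rw [hc, cond_true] at h
      cases h
      exact len_unit _

theorem len_norm : ∀ (n : ℕ) (w : List ℕ), (D.norm n w).2.length = 11
  | 0, w => len_vzero
  | n + 1, w => by
    simp only [Data.norm]
    cases h : D.red w with
    | none => exact len_vzero
    | some x => exact len_vxor (len_red h) (len_norm n x.1)

theorem len_nf (w : List ℕ) : (D.nf w).2.length = 11 := len_norm 400 w

theorem len_actW : ∀ (w : List ℕ) {v : List ℕ}, v.length = 11 → (D.actW w v).length = 11
  | [], v, h => h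
  | a :: w, v, _ => len_actM _ _

theorem len_flat (pre body : ℕ → List ℕ) (hp : ∀ k, (pre k).length = 11) :
    ∀ w, (D.flat pre body w).2.length = 11
  | [] => len_vzero
  | k :: w => len_vxor (hp k) (len_actW _ (len_flat pre body hp w))

variable (S : Setting D ι)

theorem Setting.act_iv {a : ℕ} (ha : a < 7) (v : List ℕ) :
    S.X a * iv ι D.nv S.s v = iv ι D.nv S.s (D.actG a v) * S.X a := by
  rw [iv, S.act a ha, iv, Data.actG, evV_actM]

theorem Setting.red_sound (hsh : D.shapeOK = true) : ∀ (w : List ℕ) (x : List ℕ × List ℕ), D.red w = some x →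
    (∀ k ∈ w, k < 7) → (w.map S.X).prod = iv ι D.nv S.s x.2 * (x.1.map S.X).prod ∧ ∀ k ∈ x.1, k < 7
  | [], x, h, _ => by simp [Data.red] at h
  | [_], x, h, _ => by simp [Data.red] at h
  | a :: b :: r, x, h, hlt => by
    have ha := hlt a List.mem_cons_self
    simp only [Data.red] at h
    cases hc : Nat.ble b a
    · rw [hc, cond_false] at h
      cases hr : D.red (b :: r) with
      | none => simp [hr] at h
      | some y =>
        rw [hr] at h
        cases h
        obtain ⟨e, hy⟩ := Setting.red_sound hsh (b :: r) y hr fun k hk => hlt k (List.mem_cons_of_mem a hk)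
        refine ⟨?_, fun k hk => ?_⟩
        · rw [List.map_cons, List.prod_cons, e, ← mul_assoc, S.act_iv ha, mul_assoc, ← List.prod_cons, ← List.map_cons]
        · rcases List.mem_cons.1 hk with rfl | hk
          · exact ha
          · exact hy k hk
    · rw [hc, cond_true] at h
      cases h
      refine ⟨?_, fun k hk => ?_⟩
      · rw [List.map_cons, List.prod_cons, List.map_cons, List.prod_cons, ← mul_assoc,
          S.rule a ha b (Nat.le_of_ble_eq_true hc), List.map_append, List.prod_append, iv]
        simp only [mul_assoc]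
      · rcases List.mem_append.1 hk with hk | hk
        · simp only [Data.shapeOK, Bool.and_eq_true, List.all_eq_true] at hsh
          by_cases hi : ridx a b < D.rules.length
          · rw [List.getD_eq_getElem _ _ hi] at hk
            exact Nat.le_of_ble_eq_true (hsh.1.1.1 _ (List.getElem_mem hi) k hk)
          · rw [List.getD_eq_default _ _ (not_lt.1 hi)] at hk
            simp at hk
        · exact hlt k (List.mem_cons_of_mem a (List.mem_cons_of_mem b hk))

theorem Setting.norm_sound (hsh : D.shapeOK = true) : ∀ (n : ℕ) (w : List ℕ), (∀ k ∈ w, k < 7) →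
    (w.map S.X).prod = iv ι D.nv S.s (D.norm n w).2 * ((D.norm n w).1.map S.X).prod ∧ ∀ k ∈ (D.norm n w).1, k < 7
  | 0, w, h => ⟨by rw [Data.norm, iv_vzero, one_mul], h⟩
  | n + 1, w, h => by
    simp only [Data.norm]
    cases hr : D.red w with
    | none => exact ⟨by rw [iv_vzero, one_mul], h⟩
    | some x =>
      obtain ⟨e, hx⟩ := S.red_sound hsh w x hr h
      obtain ⟨e', hy⟩ := Setting.norm_sound hsh n x.1 hx
      exact ⟨by rw [e, e', ← mul_assoc, ← iv_vxor (len_red hr) (len_norm n x.1)], hy⟩

theorem Setting.actW_sound : ∀ (w : List ℕ), (∀ k ∈ w, k < 7) → ∀ v : List ℕ,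
    (w.map S.X).prod * iv ι D.nv S.s v = iv ι D.nv S.s (D.actW w v) * (w.map S.X).prod
  | [], _, v => by simp [Data.actW]
  | a :: w, h, v => by
    rw [List.map_cons, List.prod_cons, mul_assoc, Setting.actW_sound w (fun k hk => h k (List.mem_cons_of_mem a hk)) v,
      ← mul_assoc, S.act_iv (h a List.mem_cons_self), mul_assoc]
    rfl

theorem Setting.flat_sound (pre body : ℕ → List ℕ) (hp : ∀ k, (pre k).length = 11) :
    ∀ w : List ℕ, (∀ k ∈ w, ∀ a ∈ body k, a < 7) →
      (w.map fun k => iv ι D.nv S.s (pre k) * ((body k).map S.X).prod).prod =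
        iv ι D.nv S.s (D.flat pre body w).2 * ((D.flat pre body w).1.map S.X).prod
  | [], _ => by simp [Data.flat, iv_vzero]
  | k :: w, h => by
    rw [List.map_cons, List.prod_cons, Setting.flat_sound pre body hp w fun i hi => h i (List.mem_cons_of_mem k hi),
      ← mul_assoc, mul_assoc (iv ι D.nv S.s (pre k)), S.actW_sound _ (h k List.mem_cons_self), ← mul_assoc,
      ← iv_vxor (hp k) (len_actW _ (len_flat pre body hp w)), mul_assoc, ← List.prod_append, ← List.map_append]
    rfl

/-- The words of the conjugations use the generators only. -/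
def Data.wordsOK (D : Data) : Bool :=
  D.conjs.all fun C => (C.src.all fun w => w.all fun k => Nat.blt k 7) && C.dst.all fun w => w.all fun k => Nat.blt k 7

theorem eq_of_iv {s : ℕ → ZMod 2} (inj : Function.Injective ι) {v : List ℕ} (h : iv ι nv s v = 1) :
    evV nv s v = 0 := by
  rw [iv, ← map_one ι] at h
  exact congrArg Multiplicative.toAdd (inj h)

theorem Setting.eqVal_zero (hsh : D.shapeOK = true) (hw : D.wordsOK = true) {q : Eqn}
    (hq : (match q with
      | .assoc a b c => Nat.blt a 7 && Nat.ble b a && Nat.ble c b
      | .conj j w w' => Nat.blt j D.conjs.length &&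
        (w ++ w').all fun k => Nat.blt k (D.conjs.getD j ⟨[], [], [], 0⟩).src.length) = true) :
    evV D.nv S.s (D.eqVal q) = 0 := by
  cases q with
  | assoc a b c =>
    simp only [Bool.and_eq_true] at hq
    have ha : a < 7 := Nat.le_of_ble_eq_true hq.1.1
    have hb : b ≤ a := Nat.le_of_ble_eq_true hq.1.2
    have hc : c ≤ b := Nat.le_of_ble_eq_true hq.2
    simp only [Data.eqVal]
    cases hf : (D.nf [a, b, c]).1 == (D.nf (a :: D.rules.getD (ridx b c) [])).1
    · rw [cond_false, evV_vzero]
    rw [cond_true]
    have hf' := beq_iff_eq.1 hf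
    have h1 := (S.norm_sound hsh 400 [a, b, c] (by
      simp only [List.mem_cons, List.not_mem_nil, or_false]
      rintro k (rfl | rfl | rfl) <;> omega)).1
    have h2 := (S.norm_sound hsh 400 (a :: D.rules.getD (ridx b c) []) (by
      intro k hk
      rcases List.mem_cons.1 hk with rfl | hk
      · exact ha
      simp only [Data.shapeOK, Bool.and_eq_true, List.all_eq_true] at hsh
      by_cases hi : ridx b c < D.rules.length
      · rw [List.getD_eq_getElem _ _ hi] at hk
        exact Nat.le_of_ble_eq_true (hsh.1.1.1 _ (List.getElem_mem hi) k hk)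
      · rw [List.getD_eq_default _ _ (not_lt.1 hi)] at hk
        simp at hk)).1
    have e : ([a, b, c].map S.X).prod = iv ι D.nv S.s (D.actG a (unit (ridx b c))) *
        ((a :: D.rules.getD (ridx b c) []).map S.X).prod := by
      simp only [List.map_cons, List.prod_cons, List.map_nil, List.prod_nil, mul_one]
      rw [S.rule b (by omega) c hc, ← mul_assoc, ← iv, S.act_iv ha, mul_assoc]
    rw [h1, h2, ← mul_assoc] at e
    simp only [Data.nf] at hf' ⊢
    rw [hf', mul_left_inj, ← iv_vxor (v := D.actG a (unit (ridx b c))) (len_actM _ _) (len_norm _ _)] at e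
    refine eq_of_iv S.inj ?_
    rw [iv_vxor (len_norm _ _) (len_vxor (v := D.actG a (unit (ridx b c))) (len_actM _ _) (len_norm _ _)), e, iv_self]
  | conj j w w' =>
    simp only [Bool.and_eq_true, List.all_eq_true] at hq
    have hj : j < D.conjs.length := Nat.le_of_ble_eq_true hq.1
    set C := D.conjs.getD j ⟨[], [], [], 0⟩ with hC
    have hsrc : ∀ k, ∀ a ∈ C.src.getD k [], a < 7 := fun k a hk => by
      have := List.all_eq_true.1 hw C (by rw [hC, List.getD_eq_getElem _ _ hj]; exact List.getElem_mem hj)
      simp only [Bool.and_eq_true, List.all_eq_true] at this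
      by_cases hi : k < C.src.length
      · rw [List.getD_eq_getElem _ _ hi] at hk
        exact Nat.le_of_ble_eq_true (this.1 _ (List.getElem_mem hi) a hk)
      · rw [List.getD_eq_default _ _ (not_lt.1 hi)] at hk
        simp at hk
    have hdst : ∀ k, ∀ a ∈ C.dst.getD k [], a < 7 := fun k a hk => by
      have := List.all_eq_true.1 hw C (by rw [hC, List.getD_eq_getElem _ _ hj]; exact List.getElem_mem hj)
      simp only [Bool.and_eq_true, List.all_eq_true] at this
      by_cases hi : k < C.dst.length
      · rw [List.getD_eq_getElem _ _ hi] at hk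
        exact Nat.le_of_ble_eq_true (this.2 _ (List.getElem_mem hi) a hk)
      · rw [List.getD_eq_default _ _ (not_lt.1 hi)] at hk
        simp at hk
    simp only [Data.eqVal, ← hC]
    generalize hf : ((D.nf (w.flatMap fun k => C.src.getD k [])).1 == (D.nf (w'.flatMap fun k => C.src.getD k [])).1 &&
        (D.nf (D.flat (fun k => unit (C.off + k)) (fun k => C.dst.getD k []) w).1).1 ==
          (D.nf (D.flat (fun k => unit (C.off + k)) (fun k => C.dst.getD k []) w').1).1) = t
    cases t
    · rw [cond_false, evV_vzero]
    rw [Bool.and_eq_true, beq_iff_eq, beq_iff_eq] at hf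
    rw [cond_true]
    obtain ⟨hf1, hf2⟩ := hf
    have hflat : ∀ u : List ℕ, ∀ a ∈ (D.flat (fun k => unit (C.off + k)) (fun k => C.dst.getD k []) u).1, a < 7 := by
      intro u
      induction u with
      | nil => simp [Data.flat]
      | cons k u ih =>
        intro a ha
        rcases List.mem_append.1 (by simpa [Data.flat] using ha) with ha | ha
        · exact hdst k a ha
        · exact ih a ha
    have key : ∀ u : List ℕ, (∀ k ∈ u, k < C.src.length) →
        iv ι D.nv S.s (actM C.mat (D.nf (u.flatMap fun k => C.src.getD k [])).2) *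
          (S.h j * ((D.nf (u.flatMap fun k => C.src.getD k [])).1.map S.X).prod * (S.h j)⁻¹) =
        iv ι D.nv S.s (vxor (D.flat (fun k => unit (C.off + k)) (fun k => C.dst.getD k []) u).2
            (D.nf (D.flat (fun k => unit (C.off + k)) (fun k => C.dst.getD k []) u).1).2) *
          ((D.nf (D.flat (fun k => unit (C.off + k)) (fun k => C.dst.getD k []) u).1).1.map S.X).prod := by
      intro u hu
      rw [iv_vxor (len_flat _ _ (fun k => len_unit _) u) (len_nf _), mul_assoc (iv ι D.nv S.s _)]
      simp only [Data.nf]
      rw [← (S.norm_sound hsh 400 _ (hflat u)).1,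
        ← S.flat_sound _ _ (fun k => len_unit _) u fun k _ => hdst k]
      have e1 := (S.norm_sound hsh 400 (u.flatMap fun k => C.src.getD k []) fun a ha => by
        obtain ⟨k, -, hk⟩ := List.mem_flatMap.1 ha
        exact hsrc k a hk).1
      have e2 : S.h j * ((u.flatMap fun k => C.src.getD k []).map S.X).prod * (S.h j)⁻¹ =
          (u.map fun k => iv ι D.nv S.s (unit (C.off + k)) * ((C.dst.getD k []).map S.X).prod).prod := by
        clear e1
        induction u with
        | nil => simp
        | cons k u ih =>
          rw [List.flatMap_cons, List.map_append, List.prod_append, List.map_cons, List.prod_cons,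
            ← ih fun i hi => hu i (List.mem_cons_of_mem k hi)]
          have hk := S.carry j hj k (by rw [← hC]; exact hu k List.mem_cons_self)
          rw [← hC] at hk
          rw [iv, ← hk]
          group
      rw [← e2, e1]
      have e3 := S.actH j hj (evV D.nv S.s (D.norm 400 (u.flatMap fun k => C.src.getD k [])).2)
      rw [← hC, ← evV_actM, ← iv, ← iv] at e3
      rw [← e3]
      group
    have k1 := key w fun k hk => Nat.le_of_ble_eq_true (hq.2 k (List.mem_append_left _ hk))
    have k2 := key w' fun k hk => Nat.le_of_ble_eq_true (hq.2 k (List.mem_append_right _ hk))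
    rw [hf1, hf2] at k1
    refine eq_of_iv S.inj ?_
    have l1 : (D.nf (w.flatMap fun k => C.src.getD k [])).2.length = 11 := len_norm _ _
    have l2 : (D.nf (w'.flatMap fun k => C.src.getD k [])).2.length = 11 := len_norm _ _
    rw [iv_vxor (len_vxor (len_actM _ _) (len_vxor (len_flat _ _ (fun k => len_unit _) _) (len_nf _)))
        (len_vxor (len_flat _ _ (fun k => len_unit _) _) (len_nf _)),
      iv_vxor (len_actM _ _) (len_vxor (len_flat _ _ (fun k => len_unit _) _) (len_nf _))]
    have hm : iv ι D.nv S.s (actM C.mat (vxor (D.nf (w.flatMap fun k => C.src.getD k [])).2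
        (D.nf (w'.flatMap fun k => C.src.getD k [])).2)) =
        iv ι D.nv S.s (actM C.mat (D.nf (w.flatMap fun k => C.src.getD k [])).2) *
        iv ι D.nv S.s (actM C.mat (D.nf (w'.flatMap fun k => C.src.getD k [])).2) := by
      rw [iv, iv, iv, evV_actM, evV_actM, evV_actM, evV_vxor l1 l2, ← map_mul, ← ofAdd_add]
      congr 2
      funext r
      simp only [mulM, Pi.add_apply, ← Finset.sum_add_distrib]
      exact Finset.sum_congr rfl fun k _ => by split <;> simp
    have gg := iv_self (ι := ι) (nv := D.nv) S.s (actM C.mat (vxor (D.nf (w.flatMap fun k => C.src.getD k [])).2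
      (D.nf (w'.flatMap fun k => C.src.getD k [])).2))
    rw [hm] at gg
    rw [hm]
    generalize iv ι D.nv S.s (actM C.mat (D.nf (w.flatMap fun k => C.src.getD k [])).2) = g1 at k1 gg ⊢
    generalize hg2 : iv ι D.nv S.s (actM C.mat (D.nf (w'.flatMap fun k => C.src.getD k [])).2) = g2 at k2 gg ⊢
    generalize iv ι D.nv S.s (vxor (D.flat (fun k => unit (C.off + k)) (fun k => C.dst.getD k []) w).2 _) = a1 at k1 ⊢
    generalize ha2 : iv ι D.nv S.s (vxor (D.flat (fun k => unit (C.off + k)) (fun k => C.dst.getD k []) w').2 _) = a2
      at k2 ⊢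
    generalize S.h j * _ * (S.h j)⁻¹ = B at k1 k2
    generalize (((D.nf (D.flat (fun k => unit (C.off + k)) (fun k => C.dst.getD k []) w').1).1).map S.X).prod = Q at k1 k2
    have g2s : g2 * g2 = 1 := by rw [← hg2]; exact iv_self _ _
    have a2s : a2 * a2 = 1 := by rw [← ha2]; exact iv_self _ _
    have hB : B = g2 * (a2 * Q) := by rw [← k2, ← mul_assoc, g2s, one_mul]
    rw [hB, ← mul_assoc, ← mul_assoc, mul_left_inj] at k1
    rw [← k1, mul_assoc (g1 * g2) (g1 * g2 * a2), mul_assoc (g1 * g2) a2 a2, a2s, mul_one]
    exact gg

theorem ev_combine (nv : ℕ) (s : ℕ → ZMod 2) : ∀ (l : List ℕ) (c : ℕ), (∀ x ∈ l, ev nv s x = 0) →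
    ev nv s (Data.combine l c) = 0
  | [], _, _ => ev_zero nv s
  | x :: l, c, h => by
    rw [Data.combine, ev_xor, ev_combine nv s l _ fun y hy => h y (List.mem_cons_of_mem x hy), add_zero]
    cases c.testBit 0
    · exact ev_zero nv s
    · exact h x List.mem_cons_self

/-- All checks. -/
structure Valid (D : Data) : Prop where
  shape : D.shapeOK = true
  words : D.wordsOK = true
  eqns : D.eqnsOK = true
  vals : D.valsOK = true
  solved : D.solved = true
  closed : D.closed = true

theorem Setting.vals_zero (hD : Valid D) : ∀ x ∈ D.vals, ev D.nv S.s x = 0 := by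
  intro x hx
  rw [← beq_iff_eq.1 hD.vals, List.mem_flatMap] at hx
  obtain ⟨q, hq, hx⟩ := hx
  have h0 := S.eqVal_zero hD.shape hD.words (List.all_eq_true.1 hD.eqns q hq)
  obtain ⟨r, hr, rfl⟩ := List.getElem_of_mem hx
  have hlen : (D.eqVal q).length = 11 := by
    cases q with
    | assoc a b c =>
      simp only [Data.eqVal]
      cases (D.nf [a, b, c]).1 == (D.nf (a :: D.rules.getD (ridx b c) [])).1
      · exact len_vzero
      · exact len_vxor (len_nf _) (len_vxor (len_actM _ _) (len_nf _))
    | conj j w w' =>
      simp only [Data.eqVal]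
      generalize (_ && _ : Bool) = t
      cases t
      · exact len_vzero
      · exact len_vxor (len_vxor (len_actM _ _) (len_vxor (len_flat _ _ (fun k => len_unit _) _) (len_nf _)))
          (len_vxor (len_flat _ _ (fun k => len_unit _) _) (len_nf _))
  have := congrFun h0 ⟨r, hlen ▸ hr⟩
  rw [← List.getD_eq_getElem (D.eqVal q) 0 hr]
  exact this

/-- The corrected lifts. -/
def Setting.X' (a : ℕ) : E := iv ι D.nv S.s (D.shiftAt a) * S.X a

theorem ridx_lt {a b : ℕ} (ha : a < 7) (hb : b ≤ a) : ridx a b < 28 := by
  unfold ridx
  interval_cases a <;> omega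

theorem Setting.rule' (hD : Valid D) (he : ev D.nv S.s D.eps = 0) {a b : ℕ} (ha : a < 7) (hb : b ≤ a) :
    S.X' a * S.X' b = ((D.rules.getD (ridx a b) []).map S.X').prod := by
  have hsh := hD.shape
  simp only [Data.shapeOK, Bool.and_eq_true, List.all_eq_true, List.mem_range, beq_iff_eq] at hsh
  have hl : ∀ k, (D.shiftAt k).length = 11 ∨ 7 ≤ k := fun k => by
    by_cases h : k < 7
    · exact Or.inl (hsh.2 k h)
    · exact Or.inr (not_lt.1 h)
  have hr7 : ∀ k ∈ D.rules.getD (ridx a b) [], k < 7 := fun k hk => by
    by_cases hi : ridx a b < D.rules.length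
    · rw [List.getD_eq_getElem _ _ hi] at hk
      exact Nat.le_of_ble_eq_true (hsh.1.1.1 _ (List.getElem_mem hi) k hk)
    · rw [List.getD_eq_default _ _ (not_lt.1 hi)] at hk
      simp at hk
  let pre : ℕ → List ℕ := fun k => if k < 7 then D.shiftAt k else vzero
  have hpre : ∀ k, (pre k).length = 11 := fun k => by
    by_cases h : k < 7
    · simp only [pre, h, if_true]; exact hsh.2 k h
    · simp only [pre, h, if_false]; exact len_vzero
  have hflat : ∀ w : List ℕ, (∀ k ∈ w, k < 7) →
      D.flat pre (fun k => [k]) w = D.flat D.shiftAt (fun k => [k]) w ∧ (D.flat pre (fun k => [k]) w).1 = w := by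
    intro w
    induction w with
    | nil => exact fun _ => ⟨rfl, rfl⟩
    | cons k w ih =>
      intro h
      obtain ⟨i1, i2⟩ := ih fun i hi => h i (List.mem_cons_of_mem k hi)
      refine ⟨?_, ?_⟩
      · simp only [Data.flat, i1, pre, h k List.mem_cons_self, if_true]
      · simp only [Data.flat, i2, List.singleton_append]
  have e1 : ((D.rules.getD (ridx a b) []).map S.X').prod =
      iv ι D.nv S.s (D.flat D.shiftAt (fun k => [k]) (D.rules.getD (ridx a b) [])).2 *
        ((D.rules.getD (ridx a b) []).map S.X).prod := by
    have := S.flat_sound pre (fun k => [k]) hpre (D.rules.getD (ridx a b) []) fun k hk i hi => by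
      rw [List.mem_singleton] at hi
      exact hi ▸ hr7 k hk
    rw [(hflat _ hr7).2, (hflat _ hr7).1] at this
    rw [← this]
    refine congrArg List.prod (List.map_congr_left fun k hk => ?_)
    simp [Setting.X', pre, hr7 k hk]
  have la : (D.shiftAt a).length = 11 := hsh.2 a ha
  have lb : (D.shiftAt b).length = 11 := hsh.2 b (by omega)
  have e2 : S.X' a * S.X' b = iv ι D.nv S.s
      (vxor (D.shiftAt a) (vxor (D.actG a (D.shiftAt b)) (unit (ridx a b)))) *
        ((D.rules.getD (ridx a b) []).map S.X).prod := by
    rw [iv_vxor la (len_vxor (v := D.actG a (D.shiftAt b)) (len_actM _ _) (len_unit _)),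
      iv_vxor (v := D.actG a (D.shiftAt b)) (len_actM _ _) (len_unit _), Setting.X', Setting.X', mul_assoc,
      ← mul_assoc (S.X a), S.act_iv ha, mul_assoc (iv ι D.nv S.s (D.actG a (D.shiftAt b))), S.rule a ha b hb, ← iv]
    simp only [mul_assoc]
  have h0 : evV D.nv S.s (D.changed a b) = 0 := funext fun r => by
    have := List.all_eq_true.1 (List.all_eq_true.1 (List.all_eq_true.1 hD.solved a (List.mem_range.2 ha)) b
      (List.mem_range.2 (by omega))) r.val (List.mem_range.2 r.isLt)
    have := congrArg (ev D.nv S.s) (beq_iff_eq.1 this)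
    rw [ev_combine _ _ _ _ (S.vals_zero hD), ev_xor] at this
    cases hb' : D.resid.testBit (ridx a b * 11 + r.val)
    · rwa [hb', cond_false, ev_zero, add_zero] at this
    · rwa [hb', cond_true, he, add_zero] at this
  have lfl : (D.flat D.shiftAt (fun k => [k]) (D.rules.getD (ridx a b) [])).2.length = 11 := by
    rw [← (hflat _ hr7).1]
    exact len_flat _ _ hpre _
  have h1 : iv ι D.nv S.s (D.changed a b) = 1 := by rw [iv, h0, ofAdd_zero, map_one]
  rw [Data.changed, iv_vxor (len_vxor la (len_vxor (v := D.actG a (D.shiftAt b)) (len_actM _ _) (len_unit _))) lfl,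
    mul_eq_one_iff_eq_inv, inv_eq_of_mul_eq_one_right (iv_self S.s _)] at h1
  rw [e2, h1, ← e1]

/-- The corrected lifts form a group of normal words. -/
theorem Setting.complement [Finite E] (hD : Valid D) (he : ev D.nv S.s D.eps = 0) :
    ∀ x ∈ Subgroup.closure (S.X' '' Set.Iio 7), ∃ w ∈ D.normals, x = (w.map S.X').prod := by
  have hsh := hD.shape
  simp only [Data.shapeOK, Bool.and_eq_true, List.all_eq_true, List.mem_range, List.contains_iff_mem] at hsh
  have hred : ∀ (w : List ℕ) (x : List ℕ × List ℕ), D.red w = some x → (∀ k ∈ w, k < 7) →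
      (w.map S.X').prod = (x.1.map S.X').prod ∧ ∀ k ∈ x.1, k < 7 := by
    intro w
    induction w with
    | nil => intro x h; simp [Data.red] at h
    | cons a r ih =>
      intro x h hlt
      cases r with
      | nil => simp [Data.red] at h
      | cons b r =>
        simp only [Data.red] at h
        cases hc : Nat.ble b a
        · rw [hc, cond_false] at h
          cases hr : D.red (b :: r) with
          | none => simp [hr] at h
          | some y =>
            rw [hr] at h
            cases h
            obtain ⟨e, hy⟩ := ih y hr fun k hk => hlt k (List.mem_cons_of_mem a hk)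
            refine ⟨by rw [List.map_cons, List.prod_cons, e, List.map_cons, List.prod_cons], fun k hk => ?_⟩
            rcases List.mem_cons.1 hk with rfl | hk
            · exact hlt k List.mem_cons_self
            · exact hy k hk
        · rw [hc, cond_true] at h
          cases h
          refine ⟨?_, fun k hk => ?_⟩
          · rw [List.map_cons, List.prod_cons, List.map_cons, List.prod_cons, ← mul_assoc,
              S.rule' hD he (hlt a List.mem_cons_self) (Nat.le_of_ble_eq_true hc), List.map_append, List.prod_append]
          · rcases List.mem_append.1 hk with hk | hk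
            · by_cases hi : ridx a b < D.rules.length
              · rw [List.getD_eq_getElem _ _ hi] at hk
                exact Nat.le_of_ble_eq_true (hsh.1.1.1 _ (List.getElem_mem hi) k hk)
              · rw [List.getD_eq_default _ _ (not_lt.1 hi)] at hk
                simp at hk
            · exact hlt k (List.mem_cons_of_mem a (List.mem_cons_of_mem b hk))
  have hnorm : ∀ (n : ℕ) (w : List ℕ), (∀ k ∈ w, k < 7) → (w.map S.X').prod = ((D.norm n w).1.map S.X').prod := by
    intro n
    induction n with
    | zero => intro w _; rfl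
    | succ n ih =>
      intro w h
      simp only [Data.norm]
      cases hr : D.red w with
      | none => rfl
      | some x => exact (hred w x hr h).1.trans (ih x.1 (hred w x hr h).2)
  have step : ∀ x, (∃ w ∈ D.normals, x = (w.map S.X').prod) → ∀ a < 7, ∃ w ∈ D.normals, x * S.X' a = (w.map S.X').prod := by
    rintro _ ⟨w, hw, rfl⟩ a ha
    refine ⟨(D.nf (w ++ [a])).1, List.contains_iff_mem.1
      (List.all_eq_true.1 (List.all_eq_true.1 hD.closed w hw) a (List.mem_range.2 ha)), ?_⟩
    rw [Data.nf, ← hnorm _ _ (fun k hk => ?_)]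
    · simp
    · rcases List.mem_append.1 hk with hk | hk
      · exact Nat.le_of_ble_eq_true (hsh.1.1.2 w hw k hk)
      · rw [List.mem_singleton] at hk
        omega
  intro x hx
  refine Subgroup.closure_induction_right (p := fun y _ => ∃ w ∈ D.normals, y = (w.map S.X').prod)
    ⟨[], hsh.1.2, by simp⟩ ?_ ?_ hx
  · rintro x - _ ⟨a, ha, rfl⟩ h
    exact step x h a ha
  · rintro x - _ ⟨a, ha, rfl⟩ h
    have hp : ∀ m : ℕ, ∃ w ∈ D.normals, x * S.X' a ^ m = (w.map S.X').prod := fun m => by
      induction m with
      | zero => simpa using h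
      | succ m ih => rw [pow_succ, ← mul_assoc]; exact step _ ih a ha
    have hm : S.X' a ^ (orderOf (S.X' a) - 1) = (S.X' a)⁻¹ := by
      rw [eq_inv_iff_mul_eq_one, ← pow_succ, Nat.sub_add_cancel (orderOf_pos _), pow_orderOf_eq_one]
    exact hm ▸ hp _

/-- An extension in which the left over functional vanishes is complemented. -/
theorem Setting.split [Finite E] (hD : Valid D) (he : ev D.nv S.s D.eps = 0) {G : Type*} [Group G]
    (π : E →* G) (hπ : Function.Surjective π) (hker : π.ker = ι.range)
    (hnt : ∀ w ∈ D.normals, (w.map fun k => π (S.X k)).prod = 1 → w = [])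
    (hodd : ¬ 2 ∣ (Subgroup.closure ((fun k => π (S.X k)) '' Set.Iio 7)).index) :
    ∃ H : Subgroup E, Subgroup.IsComplement' π.ker H := by
  have hX : ∀ k, π (S.X' k) = π (S.X k) := fun k => by
    rw [Setting.X', map_mul, MonoidHom.mem_ker.1 (hker ▸ ⟨_, rfl⟩ : iv ι D.nv S.s (D.shiftAt k) ∈ π.ker), one_mul]
  set A := Subgroup.closure (S.X' '' Set.Iio 7) with hA
  have hmap : A.map π = Subgroup.closure ((fun k => π (S.X k)) '' Set.Iio 7) := by
    rw [hA, MonoidHom.map_closure, Set.image_image]
    simp only [hX]
  have hdisj : A ⊓ π.ker = ⊥ := by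
    rw [eq_bot_iff]
    rintro x ⟨hx, hx'⟩
    obtain ⟨w, hw, rfl⟩ := S.complement hD he x hx
    have h1 : (w.map fun k => π (S.X k)).prod = 1 := by
      have h := MonoidHom.mem_ker.1 hx'
      rw [map_list_prod, List.map_map] at h
      rw [← h]
      exact congrArg List.prod (List.map_congr_left fun k _ => (hX k).symm)
    rw [hnt w hw h1]
    simp
  haveI : IsMulCommutative π.ker := by
    rw [hker]
    refine ⟨⟨fun a b => Subtype.ext ?_⟩⟩
    obtain ⟨_, u, rfl⟩ := a
    obtain ⟨_, v, rfl⟩ := b
    show ι u * ι v = ι v * ι u
    rw [← map_mul, ← map_mul, mul_comm]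
  refine Cfsg.Lib.SolvStruct.exists_complement_averaging (U := π.ker ⊔ A) le_sup_left ?_ A le_sup_right hdisj rfl
  have hidx : (π.ker ⊔ A).index = (A.map π).index := by
    rw [← Subgroup.index_comap_of_surjective (A.map π) hπ, Subgroup.comap_map_eq, sup_comm]
  rw [hidx, hmap]
  have hc : Nat.card π.ker = 2 ^ 11 := by
    rw [hker, ← Nat.card_congr (MonoidHom.ofInjective S.inj).toEquiv, Nat.card_congr Multiplicative.toAdd,
      Nat.card_fun, Nat.card_zmod, Nat.card_fin]
  rw [hc]
  exact Nat.Coprime.pow_left _ ((Nat.Prime.coprime_iff_not_dvd Nat.prime_two).2 hodd)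

end

end Cfsg.Lib.Golay.ExtTwo
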