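import Cfsg.Agent.Golay.ExtTwo.App

/-!
Two extensions with the same left over value are isomorphic: their fibre product over the top, modulo the diagonal of
the module, splits.
-/

set_option autoImplicit false

namespace Cfsg.Lib.Golay.ExtTwo

open Cfsg Cfsg.Lib.PermCert

theorem ev_add (nv : ℕ) (s s' : ℕ → ZMod 2) (m : ℕ) : ev nv (s + s') m = ev nv s m + ev nv s' m := by
  simp only [ev, ← Finset.sum_add_distrib]
  exact Finset.sum_congr rfl fun k _ => by split <;> simp

theorem evV_add (nv : ℕ) (s s' : ℕ → ZMod 2) (v : List ℕ) : evV nv (s + s') v = evV nv s v + evV nv s' v :=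
  funext fun _ => ev_add nv s s' _

theorem v_add_self (v : V) : v + v = 0 := funext fun r => by
  show v r + v r = 0
  exact CharTwo.add_self_eq_zero _

variable {D : Data} {gens conjEls : List PP} {owners : List (ℕ × ℕ)} {mat : PP → ℕ → ℕ → ZMod 2}
  {ρ : Equiv.Perm GolayPt → V → V}

/-- Non-split extensions are isomorphic. -/
theorem iso_of {E E' : Type*} [Group E] [Group E'] [Finite E] [Finite E'] {π : E →* ↥Spor.M23}
    {ι : Multiplicative V →* E} {π' : E' →* ↥Spor.M23} {ι' : Multiplicative V →* E'}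
    (hf : Facts D gens conjEls owners mat) (hv : Valid D) (hd : Describes ρ mat) (hx : IsExt ρ π ι)
    (hx' : IsExt ρ π' ι') (hns : ∀ H : Subgroup E, H ⊓ π.ker = ⊥ → H ⊔ π.ker ≠ ⊤)
    (hns' : ∀ H : Subgroup E', H ⊓ π'.ker = ⊥ → H ⊔ π'.ker ≠ ⊤) : Nonempty (E ≃* E') := by
  let S := mkSetting hf hv hx hd
  let S' := mkSetting hf hv hx' hd
  have hone : ∀ a : ZMod 2, a ≠ 0 → a = 1 := by decide
  have he : ev D.nv S.s D.eps = 1 := hone _ fun h => by
    obtain ⟨H, h1, h2⟩ := split_of hf hv hx S (fun k => lift_spec hx _) h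
    exact hns H h1 h2
  have he' : ev D.nv S'.s D.eps = 1 := hone _ fun h => by
    obtain ⟨H, h1, h2⟩ := split_of hf hv hx' S' (fun k => lift_spec hx' _) h
    exact hns' H h1 h2
  have kι : ∀ x, π (ι x) = 1 := fun x => MonoidHom.mem_ker.1 (hx.ker.symm ▸ ⟨x, rfl⟩ : ι x ∈ π.ker)
  have kι' : ∀ x, π' (ι' x) = 1 := fun x => MonoidHom.mem_ker.1 (hx'.ker.symm ▸ ⟨x, rfl⟩ : ι' x ∈ π'.ker)
  let P : Subgroup (E × E') := (π.comp (MonoidHom.fst E E')).eqLocus (π'.comp (MonoidHom.snd E E'))
  let δ : Multiplicative V →* ↥P := (ι.prod ι').codRestrict P fun x => (kι x).trans (kι' x).symm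
  let l : Multiplicative V →* ↥P :=
    (ι.prod (1 : Multiplicative V →* E')).codRestrict P fun x => (kι x).trans (map_one π').symm
  haveI : δ.range.Normal := ⟨by
    rintro _ ⟨v, rfl⟩ p
    refine ⟨Multiplicative.ofAdd (ρ (π p.1.1).1 v.toAdd), Subtype.ext (Prod.ext ?_ ?_)⟩
    · exact (hx.conj p.1.1 v.toAdd).symm
    · show ι' (Multiplicative.ofAdd (ρ (π p.1.1).1 v.toAdd)) = p.1.2 * ι' v * p.1.2⁻¹
      rw [show π p.1.1 = π' p.1.2 from p.2]
      exact (hx'.conj p.1.2 v.toAdd).symm⟩
  let q : ↥P →* ↥P ⧸ δ.range := QuotientGroup.mk' δ.range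
  let πF : ↥P ⧸ δ.range →* ↥Spor.M23 := QuotientGroup.lift δ.range ((π.comp (MonoidHom.fst E E')).comp P.subtype)
    (by rintro _ ⟨v, rfl⟩; exact kι v)
  let ιF : Multiplicative V →* ↥P ⧸ δ.range := q.comp l
  have hq : ∀ (y z : ↥P) (t t' : V), y.1.1 = ι (Multiplicative.ofAdd t) * z.1.1 →
      y.1.2 = ι' (Multiplicative.ofAdd t') * z.1.2 → q y = ιF (Multiplicative.ofAdd (t + t')) * q z := by
    intro y z t t' h1 h2
    have e : y = l (Multiplicative.ofAdd (t + t')) * δ (Multiplicative.ofAdd t') * z := by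
      refine Subtype.ext (Prod.ext ?_ ?_)
      · show y.1.1 = ι (Multiplicative.ofAdd (t + t')) * ι (Multiplicative.ofAdd t') * z.1.1
        rw [← map_mul, ← ofAdd_add, add_assoc, v_add_self, add_zero, h1]
      · show y.1.2 = 1 * ι' (Multiplicative.ofAdd t') * z.1.2
        rw [one_mul, h2]
    rw [e, map_mul, map_mul, show q (δ (Multiplicative.ofAdd t')) = 1 from
      (QuotientGroup.eq_one_iff _).2 ⟨_, rfl⟩, mul_one]
    rfl
  have hxF : IsExt ρ πF ιF := by
    refine ⟨fun g => ?_, ?_, ?_, ?_⟩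
    · obtain ⟨a, ha⟩ := hx.surj g
      obtain ⟨b, hb⟩ := hx'.surj g
      exact ⟨q ⟨(a, b), ha.trans hb.symm⟩, ha⟩
    · refine (injective_iff_map_eq_one _).2 fun v hv1 => ?_
      obtain ⟨u, hu⟩ := (QuotientGroup.eq_one_iff _).1 hv1
      have h1 : ι u = ι v := congrArg (fun p : ↥P => p.1.1) hu
      have h2 : ι' u = 1 := congrArg (fun p : ↥P => p.1.2) hu
      rw [← hx.inj h1]
      exact hx'.inj (h2.trans (map_one ι').symm)
    · refine Subgroup.ext fun z => ⟨fun hz => ?_, ?_⟩
      · obtain ⟨p, rfl⟩ := QuotientGroup.mk'_surjective _ z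
        have h1 : π p.1.1 = 1 := hz
        have h2 : π' p.1.2 = 1 := p.2.symm.trans h1
        have m1 : p.1.1 ∈ π.ker := h1
        have m2 : p.1.2 ∈ π'.ker := h2
        rw [hx.ker] at m1
        rw [hx'.ker] at m2
        obtain ⟨a, ha⟩ := m1
        obtain ⟨b, hb⟩ := m2
        refine ⟨Multiplicative.ofAdd (a.toAdd + b.toAdd), ?_⟩
        have := hq p 1 a.toAdd b.toAdd (by simp [ha]) (by simp [hb])
        rw [map_one, mul_one] at this
        exact this.symm
      · rintro ⟨v, rfl⟩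
        exact kι v
    · intro z v
      obtain ⟨p, rfl⟩ := QuotientGroup.mk'_surjective _ z
      show q p * q (l _) * (q p)⁻¹ = q (l _)
      rw [← map_inv, ← map_mul, ← map_mul]
      refine congrArg q (Subtype.ext (Prod.ext ?_ ?_))
      · exact hx.conj p.1.1 v
      · show p.1.2 * 1 * p.1.2⁻¹ = 1
        rw [mul_one, mul_inv_cancel]
  let pair : PP → ↥P := fun g => ⟨(lift π g, lift π' g), (lift_spec hx g).trans (lift_spec hx' g).symm⟩
  have hword : ∀ w : List ℕ, ((w.map fun k => pair (gens.getD k (0, 0))).prod).1 =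
      ((w.map S.X).prod, (w.map S'.X).prod) := by
    intro w
    induction w with
    | nil => rfl
    | cons k w ih => simp only [List.map_cons, List.prod_cons, Subgroup.coe_mul, ih]; rfl
  have hqw : ∀ w : List ℕ, (w.map fun k => q (pair (gens.getD k (0, 0)))).prod =
      q (w.map fun k => pair (gens.getD k (0, 0))).prod := fun w => by
    rw [map_list_prod, List.map_map]
    rfl
  let SF : Setting D ιF :=
    { X := fun k => q (pair (gens.getD k (0, 0)))
      h := fun j => q (pair (conjEls.getD j (0, 0)))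
      s := S.s + S'.s
      inj := hxF.inj
      room := hf.room
      act := fun a ha v => by
        show q (pair _) * q (l _) = q (l _) * q (pair _)
        rw [← map_mul, ← map_mul]
        refine congrArg q (Subtype.ext (Prod.ext (S.act a ha v) ?_))
        show _ * (1 : E') = 1 * _
        rw [mul_one, one_mul]
      rule := fun a ha b hb => by
        rw [evV_add, hqw]
        show q (pair _) * q (pair _) = _
        rw [← map_mul]
        refine hq _ _ _ _ ?_ ?_
        · rw [hword]; exact S.rule a ha b hb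
        · rw [hword]; exact S'.rule a ha b hb
      actH := fun j hj v => by
        show q (pair _) * q (l _) * (q (pair _))⁻¹ = q (l _)
        rw [← map_inv, ← map_mul, ← map_mul]
        refine congrArg q (Subtype.ext (Prod.ext (S.actH j hj v) ?_))
        show _ * (1 : E') * _⁻¹ = 1
        rw [mul_one, mul_inv_cancel]
      carry := fun j hj k hk => by
        rw [evV_add, hqw, hqw, ← map_mul, ← map_inv, ← map_mul]
        refine hq _ _ _ _ ?_ ?_
        · show _ * _ * _⁻¹ = _
          rw [hword, hword]; exact S.carry j hj k hk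
        · show _ * _ * _⁻¹ = _
          rw [hword, hword]; exact S'.carry j hj k hk }
  obtain ⟨H, hH1, hH2⟩ := split_of hf hv hxF SF (fun k => lift_spec hx _) (by
    show ev D.nv (S.s + S'.s) D.eps = 0
    rw [ev_add, he, he']
    rfl)
  let K : Subgroup ↥P := H.comap q
  let fK : ↥K →* E := ((MonoidHom.fst E E').comp P.subtype).comp K.subtype
  let gK : ↥K →* E' := ((MonoidHom.snd E E').comp P.subtype).comp K.subtype
  have hsmall : ∀ p : ↥P, p ∈ K → π p.1.1 = 1 → ∃ v, δ v = p := fun p hp h1 => by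
    have : q p ∈ H ⊓ πF.ker := ⟨hp, h1⟩
    rw [hH1, Subgroup.mem_bot] at this
    exact (QuotientGroup.eq_one_iff p).1 this
  have hcov : ∀ p : ↥P, ∃ v, l (Multiplicative.ofAdd v) * p ∈ K := fun p => by
    have hp : q p ∈ πF.ker ⊔ H := by rw [sup_comm, hH2]; trivial
    obtain ⟨n, hn, h, hh, e⟩ := Subgroup.mem_sup_of_normal_left.1 hp
    obtain ⟨v, rfl⟩ := hxF.ker ▸ hn
    refine ⟨v.toAdd, ?_⟩
    show q (l v * p) ∈ H
    rw [map_mul, ← e, ← mul_assoc, show q (l v) * ιF v = ιF (v * v) from (map_mul ιF v v).symm]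
    rw [show v * v = 1 from congrArg Multiplicative.ofAdd (v_add_self v.toAdd), map_one, one_mul]
    exact hh
  have hdel : ∀ v, δ v ∈ K := fun v => by
    show q (δ v) ∈ H
    rw [show q (δ v) = 1 from (QuotientGroup.eq_one_iff _).2 ⟨_, rfl⟩]
    exact H.one_mem
  have fb : Function.Bijective fK := by
    refine ⟨(injective_iff_map_eq_one _).2 fun k hk => ?_, fun e => ?_⟩
    · obtain ⟨v, hv1⟩ := hsmall k.1 k.2 (by rw [show k.1.1.1 = 1 from hk, map_one])
      have : v = 1 := hx.inj ((congrArg (fun p : ↥P => p.1.1) hv1).trans (hk.trans (map_one ι).symm))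
      refine Subtype.ext ?_
      rw [← hv1, this, map_one]
      rfl
    · obtain ⟨b, hb⟩ := hx'.surj (π e)
      obtain ⟨v, hv1⟩ := hcov ⟨(e, b), hb.symm⟩
      refine ⟨⟨_, K.mul_mem (hdel (Multiplicative.ofAdd v)) hv1⟩, ?_⟩
      show ι (Multiplicative.ofAdd v) * (ι (Multiplicative.ofAdd v) * e) = e
      rw [← mul_assoc, ← map_mul, ← ofAdd_add, v_add_self, ofAdd_zero, map_one, one_mul]
  have gb : Function.Bijective gK := by
    refine ⟨(injective_iff_map_eq_one _).2 fun k hk => ?_, fun e => ?_⟩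
    · obtain ⟨v, hv1⟩ := hsmall k.1 k.2 (by
        rw [show π k.1.1.1 = π' k.1.1.2 from k.1.2, show k.1.1.2 = 1 from hk, map_one])
      have : v = 1 := hx'.inj ((congrArg (fun p : ↥P => p.1.2) hv1).trans (hk.trans (map_one ι').symm))
      refine Subtype.ext ?_
      rw [← hv1, this, map_one]
      rfl
    · obtain ⟨a, ha⟩ := hx.surj (π' e)
      obtain ⟨v, hv1⟩ := hcov ⟨(a, e), ha⟩
      refine ⟨⟨_, hv1⟩, ?_⟩
      show 1 * e = e
      rw [one_mul]
  exact ⟨(MulEquiv.ofBijective fK fb).symm.trans (MulEquiv.ofBijective gK gb)⟩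

end Cfsg.Lib.Golay.ExtTwo
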