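import Cfsg.Agent.Golay.ExtTwo.CocodeValid
import Cfsg.Agent.Golay.ExtTwo.Fibre

/-!
The non-split extension of M23 by the cocode module is unique.
-/

set_option autoImplicit false

namespace Cfsg.Lib.Golay.ExtTwo.Cocode

open Cfsg Cfsg.Lib.PermCert Cfsg.Lib.Golay.Modules

/-- The coordinates of a class of words. -/
def cc : (GolayPt → ZMod 2) →+ V :=
  AddMonoidHom.mk' (fun w r => CocodeExt.pair w (CocodeExt.e r)) fun v w => funext fun r => by
    simp [CocodeExt.pair, mul_add, Finset.sum_add_distrib]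

/-- A word of given coordinates. -/
def lw : V →+ (GolayPt → ZMod 2) :=
  AddMonoidHom.mk' (fun v => ∑ r, Pi.single (CocodeExt.piv r) (v r)) fun v w => by
    rw [← Finset.sum_add_distrib]
    exact Finset.sum_congr rfl fun r _ => Pi.single_add _ _ _

theorem lw_sum (v : V) (f : GolayPt → ZMod 2) : ∑ p, f p * lw v p = ∑ k, f (CocodeExt.piv k) * v k := by
  show ∑ p, f p * (∑ r, Pi.single (CocodeExt.piv r) (v r) : GolayPt → ZMod 2) p = _
  simp only [Finset.sum_apply, Finset.mul_sum]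
  rw [Finset.sum_comm]
  refine Finset.sum_congr rfl fun r _ => ?_
  rw [Finset.sum_eq_single (CocodeExt.piv r) (fun p _ h => by rw [Pi.single_eq_of_ne h, mul_zero]) (by simp),
    Pi.single_eq_same]

theorem cc_lw (v : V) : cc (lw v) = v := by
  funext r
  show ∑ p, CocodeExt.emb (CocodeExt.e r) p * lw v p = v r
  rw [lw_sum, CocodeExt.emb_e]
  simp only [CocodeExt.piv_ok, ite_mul, one_mul, zero_mul, Finset.sum_ite_eq, Finset.mem_univ, if_true]

theorem cc_eq_zero (w : GolayPt → ZMod 2) :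
    cc w = 0 ↔ (w ∈ golayCode ∨ w + Pi.single none 1 ∈ golayCode) := by
  rw [← CocodeExt.kernel_iff, CocodeExt.theta_eq_zero]
  refine ⟨fun h x => ?_, fun h => funext fun r => h _⟩
  have := CocodeExt.add_expand (AddMonoidHom.mk' (CocodeExt.pair w) fun a b => by
    simp [CocodeExt.pair, add_mul, Finset.sum_add_distrib]) x
  show CocodeExt.pair w x = 0
  rw [AddMonoidHom.mk'_apply] at this
  rw [this]
  exact Finset.sum_eq_zero fun r _ => by
    rw [show CocodeExt.pair w (CocodeExt.e r) = cc w r from rfl, h, Pi.zero_apply, mul_zero]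

/-- The action on coordinates. -/
def rho (σ : Equiv.Perm GolayPt) (v : V) : V := cc (pw σ (lw v))

theorem describes : Describes rho matB := by
  intro p hp _ v r
  have hv := valid_of_preserves hp
  show ∑ q, CocodeExt.emb (CocodeExt.e r) q * pw (toP p) (lw v) q = _
  rw [show ∑ q, CocodeExt.emb (CocodeExt.e r) q * pw (toP p) (lw v) q =
    ∑ q, CocodeExt.emb (CocodeExt.e r) (toP p q) * lw v q from
      (Fintype.sum_equiv (toP p) _ _ fun q => by rw [pw, Equiv.symm_apply_apply]).symm, lw_sum]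
  refine Finset.sum_congr rfl fun k _ => ?_
  rw [mul_comm, CocodeExt.emb_e]
  refine congrArg (v k * ·) ?_
  show wd _ _ = _
  simp only [wd, CocodeExt.piv, pidx_toP hv, show pidx (ptAt (k.val + 1)) = k.val + 1 from pidx_ptAt ⟨_, by omega⟩]
  rfl

theorem ext_data {E : Type*} [Group E] (N : Subgroup E) [N.Normal] (φ : E ⧸ N ≃* ↥Spor.M23)
    (θ : (GolayPt → ZMod 2) →+ Additive ↥N) (hsurj : Function.Surjective θ)
    (hker : ∀ w : GolayPt → ZMod 2, θ w = 0 ↔ (w ∈ golayCode ∨ w + Pi.single none 1 ∈ golayCode))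
    (hθ : ∀ (g : E) (w : GolayPt → ZMod 2),
      ((θ (w ∘ ⇑(((φ (QuotientGroup.mk g) : ↥Spor.M23) : Equiv.Perm GolayPt)⁻¹))).toMul : E)
        = g * ((θ w).toMul : E) * g⁻¹) :
    ∃ (π : E →* ↥Spor.M23) (ι : Multiplicative V →* E), IsExt rho π ι ∧ π.ker = N := by
  let π : E →* ↥Spor.M23 := φ.toMonoidHom.comp (QuotientGroup.mk' N)
  let ι : Multiplicative V →* E := MonoidHom.mk' (fun v => ((θ (lw v.toAdd)).toMul : E)) fun a b => by
    rw [toAdd_mul, map_add, map_add]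
    rfl
  have hker' : π.ker = N := by
    ext g
    show φ (QuotientGroup.mk g) = 1 ↔ g ∈ N
    rw [EmbeddingLike.map_eq_one_iff, QuotientGroup.eq_one_iff]
  have hcc : ∀ w, θ (lw (cc w)) = θ w := fun w => by
    rw [← sub_eq_zero, ← map_sub, hker, ← cc_eq_zero, map_sub, cc_lw, sub_self]
  refine ⟨π, ι, ⟨φ.surjective.comp (QuotientGroup.mk'_surjective N), ?_, ?_, ?_⟩, hker'⟩
  · refine (injective_iff_map_eq_one _).2 fun v hv1 => Multiplicative.toAdd.injective ?_
    have h1 : θ (lw v.toAdd) = 0 := Additive.toMul.injective (Subtype.ext hv1)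
    rw [hker, ← cc_eq_zero, cc_lw] at h1
    exact h1
  · refine hker'.trans (Subgroup.ext fun g => ⟨fun hg => ?_, ?_⟩)
    · obtain ⟨w, hw⟩ := hsurj (Additive.ofMul ⟨g, hg⟩)
      refine ⟨Multiplicative.ofAdd (cc w), ?_⟩
      show ((θ (lw (cc w))).toMul : E) = g
      rw [hcc, hw]
      rfl
    · rintro ⟨v, rfl⟩
      exact (θ (lw v.toAdd)).toMul.2
  · intro g v
    show g * ((θ (lw v)).toMul : E) * g⁻¹ = ((θ (lw (cc (pw (π g).1 (lw v))))).toMul : E)
    rw [hcc]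
    exact (hθ g (lw v)).symm

theorem unique {E : Type*} [Group E] [Finite E] (N : Subgroup E) [N.Normal] (φ : E ⧸ N ≃* ↥Spor.M23)
    (θ : (GolayPt → ZMod 2) →+ Additive ↥N) (hsurj : Function.Surjective θ)
    (hker : ∀ w : GolayPt → ZMod 2, θ w = 0 ↔ (w ∈ golayCode ∨ w + Pi.single none 1 ∈ golayCode))
    (hθ : ∀ (g : E) (w : GolayPt → ZMod 2),
      ((θ (w ∘ ⇑(((φ (QuotientGroup.mk g) : ↥Spor.M23) : Equiv.Perm GolayPt)⁻¹))).toMul : E)
        = g * ((θ w).toMul : E) * g⁻¹)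
    (hns : ∀ H : Subgroup E, H ⊓ N = ⊥ → H ⊔ N ≠ ⊤)
    {E' : Type*} [Group E'] [Finite E'] (N' : Subgroup E') [N'.Normal] (φ' : E' ⧸ N' ≃* ↥Spor.M23)
    (θ' : (GolayPt → ZMod 2) →+ Additive ↥N') (hsurj' : Function.Surjective θ')
    (hker' : ∀ w : GolayPt → ZMod 2, θ' w = 0 ↔ (w ∈ golayCode ∨ w + Pi.single none 1 ∈ golayCode))
    (hθ' : ∀ (g : E') (w : GolayPt → ZMod 2),
      ((θ' (w ∘ ⇑(((φ' (QuotientGroup.mk g) : ↥Spor.M23) : Equiv.Perm GolayPt)⁻¹))).toMul : E')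
        = g * ((θ' w).toMul : E') * g⁻¹)
    (hns' : ∀ H : Subgroup E', H ⊓ N' = ⊥ → H ⊔ N' ≠ ⊤) : Nonempty (E ≃* E') := by
  obtain ⟨π, ι, hx, rfl⟩ := ext_data N φ θ hsurj hker hθ
  obtain ⟨π', ι', hx', rfl⟩ := ext_data N' φ' θ' hsurj' hker' hθ'
  exact iso_of (facts_of_tied tied_ok) valid describes hx hx' hns hns'

end Cfsg.Lib.Golay.ExtTwo.Cocode
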