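import Cfsg.Agent.Golay.ExtTwo.DataCocode
import Cfsg.Agent.Golay.ExtTwo.App

/-!
Checks of the certificate for extensions of M23 by the cocode module.
-/

set_option autoImplicit false

namespace Cfsg.Lib.Golay.ExtTwo.Cocode

open Cfsg Cfsg.Lib.PermCert

/-- The matrix of a table on the cocode module. -/
def matB (p : PP) (r k : ℕ) : ZMod 2 :=
  if (CocodeExt.bList.getD r 0).testBit (ap p.1 (k + 1)) then 1 else 0

theorem shape_ok : data.shapeOK = true := by decide +kernel

theorem words_ok : data.wordsOK = true := by decide +kernel

theorem eqns_ok : data.eqnsOK = true := by decide +kernel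

theorem vals_ok : data.valsOK = true := by decide +kernel

theorem solved_ok : data.solved = true := by decide +kernel

theorem closed_ok : data.closed = true := by decide +kernel

theorem valid : Valid data := ⟨shape_ok, words_ok, eqns_ok, vals_ok, solved_ok, closed_ok⟩

theorem tied_ok : tied data gens conjEls owners matB = true := by decide +kernel

end Cfsg.Lib.Golay.ExtTwo.Cocode
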