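import Cfsg.Agent.Golay.ExtTwo.CodeValid

/-!
Extensions of M23 by the code module split.
-/

set_option autoImplicit false

namespace Cfsg.Lib.Golay.ExtTwo.Code

open Cfsg Cfsg.Lib.PermCert Cfsg.Lib.Golay.Modules

theorem describes : Describes (fun σ v => CocodeExt.act σ v) matB := by
  intro p hp _ v r
  show CocodeExt.act (toP p) v r = _
  have := CocodeExt.add_expand ((Pi.evalAddMonoidHom (fun _ : Fin 11 => ZMod 2) r).comp (CocodeExt.act (toP p))) v
  simp only [AddMonoidHom.comp_apply, Pi.evalAddMonoidHom_apply] at this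
  rw [this]
  exact Finset.sum_congr rfl fun k _ => by rw [CocodeExt.act_toP (valid_of_preserves hp)]; rfl

theorem split {E : Type*} [Group E] [Finite E] (N : Subgroup E) [hN : N.Normal] (φ : E ⧸ N ≃* ↥Spor.M23)
    (ψ : Additive ↥N →+ (GolayPt → ZMod 2)) (hinj : Function.Injective ψ)
    (hrange : ∀ w : GolayPt → ZMod 2, w ∈ Set.range ψ ↔ (w ∈ golayCode ∧ w none = 0))
    (hψ : ∀ (g : E) (n : ↥N), ψ (Additive.ofMul ⟨g * n * g⁻¹, hN.conj_mem n n.2 g⟩)
      = ψ (Additive.ofMul n) ∘ ⇑(((φ (QuotientGroup.mk g) : ↥Spor.M23) : Equiv.Perm GolayPt)⁻¹)) :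
    ∃ H : Subgroup E, H ⊓ N = ⊥ ∧ H ⊔ N = ⊤ := by
  have hx : ∀ n, CocodeExt.emb (CocodeExt.proj (ψ n)) = ψ n := fun n =>
    CocodeExt.emb_proj ((hrange _).1 ⟨n, rfl⟩).1 ((hrange _).1 ⟨n, rfl⟩).2
  let χ : Additive ↥N →+ V := CocodeExt.proj.comp ψ
  have hχ : Function.Bijective χ := ⟨fun a b h => hinj (by rw [← hx a, ← hx b]; exact congrArg _ h), fun v => by
    obtain ⟨n, hn⟩ := (hrange _).2 (CocodeExt.emb_mem v)
    exact ⟨n, by show CocodeExt.proj (ψ n) = v; rw [hn, CocodeExt.proj_emb]⟩⟩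
  let e := AddEquiv.ofBijective χ hχ
  let ι : Multiplicative V →* E := MonoidHom.mk' (fun v => ((e.symm v.toAdd).toMul : E)) fun a b => by
    rw [toAdd_mul, map_add]
    rfl
  let π : E →* ↥Spor.M23 := φ.toMonoidHom.comp (QuotientGroup.mk' N)
  have hker : π.ker = N := by
    ext g
    show φ (QuotientGroup.mk g) = 1 ↔ g ∈ N
    rw [EmbeddingLike.map_eq_one_iff, QuotientGroup.eq_one_iff]
  have hext : IsExt (fun σ v => CocodeExt.act σ v) π ι := by
    refine ⟨φ.surjective.comp (QuotientGroup.mk'_surjective N), ?_, ?_, ?_⟩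
    · intro a b h
      exact Multiplicative.toAdd.injective (e.symm.injective (Additive.toMul.injective (Subtype.ext h)))
    · refine hker.trans (Subgroup.ext fun g => ⟨fun hg => ⟨Multiplicative.ofAdd (e (Additive.ofMul ⟨g, hg⟩)), ?_⟩, ?_⟩)
      · show ((e.symm (e _)).toMul : E) = g
        rw [e.symm_apply_apply]
        rfl
      · rintro ⟨v, rfl⟩
        exact (e.symm v.toAdd).toMul.2
    · intro g v
      show g * ((e.symm v).toMul : E) * g⁻¹ = ((e.symm (CocodeExt.act (π g).1 v)).toMul : E)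
      have h : e.symm (CocodeExt.act (π g).1 v) =
          Additive.ofMul ⟨g * (e.symm v).toMul * g⁻¹, hN.conj_mem _ (e.symm v).toMul.2 g⟩ := by
        rw [AddEquiv.symm_apply_eq]
        show _ = CocodeExt.proj (ψ _)
        rw [hψ g (e.symm v).toMul]
        have hv : ψ (e.symm v) = CocodeExt.emb v := by
          rw [← hx (e.symm v)]
          exact congrArg _ (e.apply_symm_apply v)
        rw [ofMul_toMul, hv]
        funext r
        rw [CocodeExt.act_toP_apply, CocodeExt.proj_apply, Function.comp_apply]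
        rfl
      rw [h]
      rfl
  have hf := facts_of_tied tied_ok
  obtain ⟨H, h1, h2⟩ := split_of hf valid hext (mkSetting hf valid hext describes) (fun k => lift_spec hext _)
    (ev_zero _ _)
  exact ⟨H, hker ▸ h1, hker ▸ h2⟩

end Cfsg.Lib.Golay.ExtTwo.Code
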